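import Mathlib.GroupTheory.SpecificGroups.Alternating

/-!
Permutations of `Fin n` (`n ≤ 16`) coded as natural numbers with base sixteen digits, for checking
identities in small alternating groups by computation.
-/

set_option autoImplicit false

namespace Cfsg.Agent.Solv.AltSec

open Equiv

/-- The `i`-th digit. -/
def app (c i : ℕ) : ℕ := c / 16 ^ i % 16

/-- The code of a function. -/
def pack : ℕ → (ℕ → ℕ) → ℕ
  | 0, _ => 0
  | k + 1, f => f 0 + 16 * pack k (fun i => f (i + 1))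

theorem app_pack : ∀ (n : ℕ) (f : ℕ → ℕ), (∀ i, i < n → f i < 16) → ∀ i, i < n → app (pack n f) i = f i
  | 0, _, _, i, hi => absurd hi (Nat.not_lt_zero i)
  | k + 1, f, hf, 0, _ => by
    rw [app, pack, pow_zero, Nat.div_one, Nat.add_mul_mod_self_left, Nat.mod_eq_of_lt (hf 0 k.succ_pos)]
  | k + 1, f, hf, i + 1, hi => by
    have h := app_pack k (fun j => f (j + 1)) (fun j hj => hf _ (Nat.succ_lt_succ hj)) i (Nat.lt_of_succ_lt_succ hi)
    rw [app] at h ⊢
    rw [pack, pow_succ', ← Nat.div_div_eq_div_mul, Nat.add_mul_div_left _ _ (by norm_num : 0 < 16),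
      Nat.div_eq_of_lt (hf 0 k.succ_pos), zero_add, h]

/-- Composition of codes. -/
def comp (n a b : ℕ) : ℕ := pack n (fun i => app a (app b i))

/-- The code of a transposition. -/
def swapCode (n i j : ℕ) : ℕ := pack n (fun k => if k = i then j else if k = j then i else k)

/-- The code of the identity. -/
def idCode (n : ℕ) : ℕ := pack n id

/-- The permutation with a given code. -/
noncomputable def toPerm (n c : ℕ) : Perm (Fin n) :=
  if h : Function.Bijective (fun i : Fin n => if hh : app c i < n then (⟨app c i, hh⟩ : Fin n) else i) then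
    Equiv.ofBijective _ h
  else 1

/-- The code is that of a permutation. -/
def Good (n c : ℕ) : Prop := (∀ i, i < n → app c i < n) ∧ Function.Surjective (fun i : Fin n => (toPerm n c i))
  ∧ ∀ i : Fin n, (toPerm n c i : ℕ) = app c i

theorem good_of {n c : ℕ} (hlt : ∀ i, i < n → app c i < n) (hs : ∀ j, j < n → ∃ i, i < n ∧ app c i = j) :
    Good n c := by
  have hb : Function.Bijective (fun i : Fin n => if hh : app c i < n then (⟨app c i, hh⟩ : Fin n) else i) := by
    refine Finite.surjective_iff_bijective.1 fun j => ?_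
    obtain ⟨i, hi, hij⟩ := hs j j.2
    exact ⟨⟨i, hi⟩, by simp only [dif_pos (hlt i hi)]; exact Fin.ext hij⟩
  refine ⟨hlt, (toPerm n c).surjective, fun i => ?_⟩
  unfold toPerm
  rw [dif_pos hb, Equiv.ofBijective_apply, dif_pos (hlt i i.2)]

theorem Good.val {n c : ℕ} (h : Good n c) (i : Fin n) : (toPerm n c i : ℕ) = app c i := h.2.2 i

theorem good_ofPerm {n : ℕ} (hn : n ≤ 16) (σ : Perm (Fin n)) (f : ℕ → ℕ) (hf : ∀ i : Fin n, f i = (σ i : ℕ)) :
    Good n (pack n f) ∧ toPerm n (pack n f) = σ := by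
  have hlt : ∀ i, i < n → f i < 16 := fun i hi => lt_of_lt_of_le (hf ⟨i, hi⟩ ▸ (σ ⟨i, hi⟩).2) hn
  have hg : Good n (pack n f) := by
    refine good_of (fun i hi => ?_) (fun j hj => ⟨(σ.symm ⟨j, hj⟩ : Fin n), Fin.isLt _, ?_⟩)
    · rw [app_pack n f hlt i hi]
      exact hf ⟨i, hi⟩ ▸ (σ ⟨i, hi⟩).2
    · rw [app_pack n f hlt _ (Fin.isLt _), hf, Equiv.apply_symm_apply]
  refine ⟨hg, Equiv.ext fun i => Fin.ext ?_⟩
  rw [hg.val, app_pack n f hlt i i.2, hf]

theorem comp_spec {n a b : ℕ} (hn : n ≤ 16) (ha : Good n a) (hb : Good n b) :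
    Good n (comp n a b) ∧ toPerm n (comp n a b) = toPerm n a * toPerm n b :=
  good_ofPerm hn _ _ fun i => by rw [Perm.mul_apply, ha.val, hb.val]

theorem swapCode_spec {n : ℕ} (hn : n ≤ 16) (i j : Fin n) :
    Good n (swapCode n i j) ∧ toPerm n (swapCode n i j) = Equiv.swap i j :=
  good_ofPerm hn _ _ fun k => by
    rw [Equiv.swap_apply_def]
    simp only [Fin.val_inj]
    split_ifs <;> rfl

theorem idCode_spec {n : ℕ} (hn : n ≤ 16) : Good n (idCode n) ∧ toPerm n (idCode n) = 1 :=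
  good_ofPerm hn _ _ fun _ => rfl

/-- The code is that of an even permutation. -/
def Evn (n c : ℕ) : Prop := Good n c ∧ Equiv.Perm.sign (toPerm n c) = 1

/-- The element of the alternating group with a given code. -/
noncomputable def el (n c : ℕ) : alternatingGroup (Fin n) :=
  if h : Equiv.Perm.sign (toPerm n c) = 1 then ⟨toPerm n c, Equiv.Perm.mem_alternatingGroup.2 h⟩ else 1

theorem el_val {n c : ℕ} (h : Evn n c) : (el n c : Perm (Fin n)) = toPerm n c := by rw [el, dif_pos h.2]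

theorem Evn.comp {n a b : ℕ} (hn : n ≤ 16) (ha : Evn n a) (hb : Evn n b) :
    Evn n (comp n a b) ∧ el n (AltSec.comp n a b) = el n a * el n b := by
  obtain ⟨h1, h2⟩ := comp_spec hn ha.1 hb.1
  have h : Evn n (AltSec.comp n a b) := ⟨h1, by rw [h2, map_mul, ha.2, hb.2, one_mul]⟩
  exact ⟨h, Subtype.ext (by rw [Subgroup.coe_mul, el_val h, el_val ha, el_val hb, h2])⟩

theorem evn_id {n : ℕ} (hn : n ≤ 16) : Evn n (idCode n) ∧ el n (idCode n) = 1 := by
  have h : Evn n (idCode n) := ⟨(idCode_spec hn).1, by rw [(idCode_spec hn).2, map_one]⟩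
  exact ⟨h, Subtype.ext (by rw [el_val h, (idCode_spec hn).2, Subgroup.coe_one])⟩

/-- The code of a product of transpositions. -/
def wcode (n : ℕ) : List (ℕ × ℕ) → ℕ
  | [] => idCode n
  | q :: w => comp n (swapCode n q.1 q.2) (wcode n w)

/-- The list consists of an even number of genuine transpositions. -/
def wordOK (n : ℕ) (w : List (ℕ × ℕ)) : Bool :=
  w.length % 2 == 0 && w.all fun q => Nat.blt q.1 n && Nat.blt q.2 n && q.1 != q.2

theorem wcode_spec {n : ℕ} (hn : n ≤ 16) : ∀ w : List (ℕ × ℕ),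
    (∀ q ∈ w, q.1 < n ∧ q.2 < n ∧ q.1 ≠ q.2) →
      Good n (wcode n w) ∧ Equiv.Perm.sign (toPerm n (wcode n w)) = (-1) ^ w.length
  | [], _ => ⟨(idCode_spec hn).1, by rw [wcode, (idCode_spec hn).2, map_one, List.length_nil, pow_zero]⟩
  | (i, j) :: w, h => by
    obtain ⟨hi, hj, hij⟩ := h (i, j) List.mem_cons_self
    obtain ⟨h1, h2⟩ := wcode_spec hn w fun q hq => h q (List.mem_cons_of_mem _ hq)
    obtain ⟨s1, s2⟩ := swapCode_spec hn ⟨i, hi⟩ ⟨j, hj⟩
    obtain ⟨c1, c2⟩ := comp_spec hn s1 h1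
    refine ⟨c1, ?_⟩
    rw [show toPerm n (wcode n ((i, j) :: w)) = _ from c2, map_mul, s2, h2,
      Equiv.Perm.sign_swap (fun he => hij (congrArg Fin.val he)), List.length_cons, pow_succ']

theorem evn_wcode {n : ℕ} (hn : n ≤ 16) {w : List (ℕ × ℕ)} (h : wordOK n w = true) : Evn n (wcode n w) := by
  simp only [wordOK, Bool.and_eq_true, beq_iff_eq, List.all_eq_true, Nat.blt_eq, bne_iff_ne, ne_eq] at h
  obtain ⟨h1, h2⟩ := wcode_spec hn w fun q hq => ⟨(h.2 q hq).1.1, (h.2 q hq).1.2, (h.2 q hq).2⟩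
  refine ⟨h1, h2.trans ?_⟩
  exact (Nat.even_iff.2 h.1).neg_one_pow

end Cfsg.Agent.Solv.AltSec
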