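import Cfsg.Agent.Lib.Solv.AltSec.Ops
import Mathlib.Data.Fintype.Prod
import Mathlib.SetTheory.Cardinal.Finite

/-!
Counting fixed vectors of an element permuting three eigenspaces cyclically.
-/

set_option autoImplicit false

namespace Cfsg.Agent.Solv.AltSec

/-- `P` and the three conjugates of `D` under `z` are orthogonal idempotents with sum one, `z`
commutes with `P`, and `t` fixes `P` and `D` and negates the other two conjugates. -/
def decompOK (n : ℕ) (p : ℤ) (wt : Bool) (z t : List (ℕ × ℕ)) (P D : List (ℕ × ℤ)) (keys : List ℕ) : Bool :=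
  let Z : List (ℕ × ℤ) := [(wcode n z, 1)]
  let Z2 : List (ℕ × ℤ) := [(comp n (wcode n z) (wcode n z), 1)]
  let T : List (ℕ × ℤ) := [(wcode n t, 1)]
  let I : List (ℕ × ℤ) := [(idCode n, 1)]
  let X := mulOp n (mulOp n Z D) Z2
  let Y := mulOp n (mulOp n Z2 D) Z
  wordOK n z && wordOK n t && Nat.beq (comp n (wcode n z) (comp n (wcode n z) (wcode n z))) (idCode n) &&
    opEq p keys (mulOp n P P) P && opEq p keys (mulOp n P D) [] && opEq p keys (mulOp n D P) [] &&
    opEq p keys (mulOp n D D) D && opEq p keys (mulOp n (mulOp n D Z) D) [] &&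
    opEq p keys (mulOp n (mulOp n D Z2) D) [] && opEq p keys (P ++ (D ++ (X ++ Y))) I &&
    opEq p keys (mulOp n Z P) (mulOp n P Z) &&
    (!wt || (opEq p keys (mulOp n T P) P && opEq p keys (mulOp n T D) D &&
      opEq p keys (mulOp n T (X ++ Y)) (scale (-1) (X ++ Y))))

variable {n : ℕ} {V : Type*} [AddCommGroup V] [Finite V] [DistribMulAction (alternatingGroup (Fin n)) V]

theorem evns_mul (hn : n ≤ 16) : ∀ {O P : List (ℕ × ℤ)}, Evns n O → Evns n P → Evns n (mulOp n O P)
  | [], _, _, _ => fun _ h => absurd h List.not_mem_nil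
  | q :: O, P, hO, hP => by
    intro r hr
    rw [mulOp, List.mem_append] at hr
    rcases hr with hr | hr
    · simp only [scale, lmulOp, List.map_map, List.mem_map, Function.comp] at hr
      obtain ⟨s, hs, rfl⟩ := hr
      exact ((hO q List.mem_cons_self).comp hn (hP s hs)).1
    · exact evns_mul hn (fun a ha => hO a (List.mem_cons_of_mem _ ha)) hP r hr

theorem evns_single {c : ℕ} (h : Evn n c) (m : ℤ) : Evns n [(c, m)] := fun q hq => by
  rw [List.mem_singleton] at hq
  subst hq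
  exact h

theorem opApp_single (c : ℕ) (u : V) : opApp n [(c, (1 : ℤ))] u = el n c • u := by
  simp [opApp, linVal]

omit [Finite V] in
theorem opApp_append (O P : List (ℕ × ℤ)) (u : V) : opApp n (O ++ P) u = opApp n O u + opApp n P u :=
  linVal_append _ O P

/-- The counting statement. -/
theorem decomp_card (hn : n ≤ 16) {p : ℤ} (hp : ∀ u : V, p • u = 0) (h2 : ∀ u : V, u + u = 0 → u = 0)
    {wt : Bool} {z t : List (ℕ × ℕ)} {P D : List (ℕ × ℤ)} {keys : List ℕ} (hP : Evns n P) (hD : Evns n D)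
    (h : decompOK n p wt z t P D keys = true)
    (hfix : ∀ u : V, el n (wcode n z) • opApp n P u = opApp n P u → opApp n P u = 0) :
    Nat.card V = Nat.card (Set.range (opApp (V := V) n P)) *
        Nat.card {u : V // el n (wcode n z) • u = u} ^ 3 ∧
    (wt = true → Nat.card {u : V // el n (wcode n t) • u = u} = Nat.card (Set.range (opApp (V := V) n P)) *
        Nat.card {u : V // el n (wcode n z) • u = u}) := by
  simp only [decompOK, Bool.and_eq_true, Nat.beq_eq] at h
  obtain ⟨⟨⟨⟨⟨⟨⟨⟨⟨⟨⟨hz, ht⟩, hz3⟩, ePP⟩, ePD⟩, eDP⟩, eDD⟩, eDZD⟩, eDZ2D⟩, eSum⟩, eZP⟩, eTall⟩ := h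
  have vz := evn_wcode hn hz
  have vt := evn_wcode hn ht
  obtain ⟨vz2, ez2⟩ := vz.comp hn vz
  set ζ := el n (wcode n z) with hζ
  set τ := el n (wcode n t) with hτ
  have hcube : ∀ u : V, ζ • ζ • ζ • u = u := by
    intro u
    have e := (vz.comp hn vz2).2
    rw [hz3, (evn_id hn).2, ez2] at e
    rw [← mul_smul, ← mul_smul, mul_assoc, ← e, one_smul]
  have sZ := evns_single vz 1
  have sZ2 := evns_single vz2 1
  have sT := evns_single vt 1
  have aZ : ∀ u : V, opApp n [(wcode n z, (1 : ℤ))] u = ζ • u := fun u => opApp_single _ u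
  have aZ2 : ∀ u : V, opApp n [(comp n (wcode n z) (wcode n z), (1 : ℤ))] u = ζ • ζ • u := fun u => by
    rw [opApp_single, ez2, mul_smul]
  have aT : ∀ u : V, opApp n [(wcode n t, (1 : ℤ))] u = τ • u := fun u => opApp_single _ u
  have aI : ∀ u : V, opApp n [(idCode n, (1 : ℤ))] u = u := fun u => by
    rw [opApp_single, (evn_id hn).2, one_smul]
  set fP : V → V := opApp n P with hfP
  set fD : V → V := opApp n D with hfD
  have lPP : ∀ u, fP (fP u) = fP u := fun u => by
    rw [hfP, ← opApp_mul hn hP hP, opApp_congr hp ePP]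
  have lPD : ∀ u, fP (fD u) = 0 := fun u => by
    rw [hfP, hfD, ← opApp_mul hn hP hD, opApp_congr hp ePD]
    rfl
  have lDP : ∀ u, fD (fP u) = 0 := fun u => by
    rw [hfP, hfD, ← opApp_mul hn hD hP, opApp_congr hp eDP]
    rfl
  have lDD : ∀ u, fD (fD u) = fD u := fun u => by
    rw [hfD, ← opApp_mul hn hD hD, opApp_congr hp eDD]
  have lDZD : ∀ u, fD (ζ • fD u) = 0 := fun u => by
    rw [hfD, ← aZ, ← opApp_mul hn hD sZ, ← opApp_mul hn (evns_mul hn hD sZ) hD, opApp_congr hp eDZD]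
    rfl
  have lDZ2D : ∀ u, fD (ζ • ζ • fD u) = 0 := fun u => by
    rw [hfD, ← aZ2, ← opApp_mul hn hD sZ2, ← opApp_mul hn (evns_mul hn hD sZ2) hD,
      opApp_congr hp eDZ2D]
    rfl
  have lZP : ∀ u, fP (ζ • u) = ζ • fP u := fun u => by
    rw [hfP, ← aZ, ← aZ, ← opApp_mul hn hP sZ, ← opApp_mul hn sZ hP, opApp_congr hp eZP]
  have aX : ∀ u, opApp n (mulOp n (mulOp n [(wcode n z, (1 : ℤ))] D) [(comp n (wcode n z) (wcode n z), (1 : ℤ))]) u
      = ζ • fD (ζ • ζ • u) := fun u => by
    rw [opApp_mul hn (evns_mul hn sZ hD) sZ2, opApp_mul hn sZ hD, aZ, aZ2]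
  have aY : ∀ u, opApp n (mulOp n (mulOp n [(comp n (wcode n z) (wcode n z), (1 : ℤ))] D) [(wcode n z, (1 : ℤ))]) u
      = ζ • ζ • fD (ζ • u) := fun u => by
    rw [opApp_mul hn (evns_mul hn sZ2 hD) sZ, opApp_mul hn sZ2 hD, aZ, aZ2]
  have lSum : ∀ u, fP u + (fD u + (ζ • fD (ζ • ζ • u) + ζ • ζ • fD (ζ • u))) = u := fun u => by
    rw [← aX, ← aY, hfP, hfD, ← opApp_append, ← opApp_append, ← opApp_append, opApp_congr hp eSum, aI]
  let eC : {u : V // ζ • u = u} ≃ Set.range fD :=
    { toFun := fun u => ⟨fD u, u, rfl⟩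
      invFun := fun a => ⟨a.1 + ζ • a.1 + ζ • ζ • a.1, by
        simp only [smul_add]
        rw [hcube]
        abel⟩
      left_inv := fun u => Subtype.ext (by
        show fD u + ζ • fD u + ζ • ζ • fD u = (u : V)
        have h0 : fP u = 0 := hfix u (by rw [← lZP, u.2])
        have e := lSum u
        rw [h0, u.2, u.2, zero_add] at e
        rw [add_assoc]
        exact e)
      right_inv := fun a => by
        obtain ⟨a, b, rfl⟩ := a
        refine Subtype.ext ?_
        show fD (fD b + ζ • fD b + ζ • ζ • fD b) = fD b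
        rw [hfD, opApp_add, opApp_add, ← hfD, lDD, lDZD, lDZ2D, add_zero, add_zero] }
  let eV : V ≃ Set.range fP × Set.range fD × Set.range fD × Set.range fD :=
    { toFun := fun u => (⟨fP u, u, rfl⟩, ⟨fD u, u, rfl⟩, ⟨fD (ζ • ζ • u), _, rfl⟩, ⟨fD (ζ • u), _, rfl⟩)
      invFun := fun q => q.1.1 + (q.2.1.1 + (ζ • q.2.2.1.1 + ζ • ζ • q.2.2.2.1))
      left_inv := fun u => lSum u
      right_inv := fun q => by
        obtain ⟨⟨w, w0, rfl⟩, ⟨a, a0, rfl⟩, ⟨b, b0, rfl⟩, ⟨c, c0, rfl⟩⟩ := q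
        have hPz2 : ∀ u, ζ • ζ • fP u = fP (ζ • ζ • u) := fun u => by rw [lZP, lZP]
        refine Prod.ext (Subtype.ext ?_) (Prod.ext (Subtype.ext ?_) (Prod.ext (Subtype.ext ?_) (Subtype.ext ?_)))
        · show fP (fP w0 + (fD a0 + (ζ • fD b0 + ζ • ζ • fD c0))) = fP w0
          rw [hfP, opApp_add, opApp_add, opApp_add, ← hfP, lPP, lPD, lZP, lZP, lZP, lPD, lPD, smul_zero,
            smul_zero]
          simp
        · show fD (fP w0 + (fD a0 + (ζ • fD b0 + ζ • ζ • fD c0))) = fD a0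
          rw [hfD, opApp_add, opApp_add, opApp_add, ← hfD, lDP, lDD, lDZD, lDZ2D]
          simp
        · show fD (ζ • ζ • (fP w0 + (fD a0 + (ζ • fD b0 + ζ • ζ • fD c0)))) = fD b0
          simp only [smul_add]
          rw [hfD, opApp_add, opApp_add, opApp_add, ← hfD, hPz2, lDP, lDZ2D, hcube, lDD, hcube, lDZD]
          simp
        · show fD (ζ • (fP w0 + (fD a0 + (ζ • fD b0 + ζ • ζ • fD c0)))) = fD c0
          simp only [smul_add]
          rw [hfD, opApp_add, opApp_add, opApp_add, ← hfD, ← lZP, lDP, lDZD, lDZ2D, hcube, lDD]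
          simp }
  constructor
  · rw [Nat.card_congr eV, Nat.card_prod, Nat.card_prod, Nat.card_prod, ← Nat.card_congr eC]
    ring
  · intro hwt
    simp only [hwt, Bool.not_true, Bool.false_or, Bool.and_eq_true] at eTall
    obtain ⟨⟨eTP, eTD⟩, eT⟩ := eTall
    have lTP : ∀ u, τ • fP u = fP u := fun u => by
      rw [hfP, ← aT, ← opApp_mul hn sT hP, opApp_congr hp eTP]
    have lTD : ∀ u, τ • fD u = fD u := fun u => by
      rw [hfD, ← aT, ← opApp_mul hn sT hD, opApp_congr hp eTD]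
    have lT : ∀ u, τ • (ζ • fD (ζ • ζ • u) + ζ • ζ • fD (ζ • u)) =
        -(ζ • fD (ζ • ζ • u) + ζ • ζ • fD (ζ • u)) := fun u => by
      have hXY : Evns n (mulOp n (mulOp n [(wcode n z, (1 : ℤ))] D) [(comp n (wcode n z) (wcode n z), (1 : ℤ))] ++
          mulOp n (mulOp n [(comp n (wcode n z) (wcode n z), (1 : ℤ))] D) [(wcode n z, (1 : ℤ))]) := by
        intro q hq
        rcases List.mem_append.1 hq with hq | hq
        · exact evns_mul hn (evns_mul hn sZ hD) sZ2 q hq
        · exact evns_mul hn (evns_mul hn sZ2 hD) sZ q hq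
      rw [← aX, ← aY, ← opApp_append, ← aT, ← opApp_mul hn sT hXY, opApp_congr hp eT]
      simp only [opApp, linVal_scale, neg_smul, one_smul]
    have hneg : ∀ u, τ • u = u → fP u + fD u = u := fun u hu => by
      have e := lSum u
      have e' := congrArg (τ • ·) e
      simp only [smul_add] at e'
      rw [lTP, lTD, ← smul_add, lT, hu] at e'
      have h0 : ζ • fD (ζ • ζ • u) + ζ • ζ • fD (ζ • u) = 0 := by
        refine h2 _ (neg_eq_iff_add_eq_zero.1 ?_)
        exact add_left_cancel (add_left_cancel (e'.trans e.symm))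
      rw [h0, add_zero] at e
      exact e
    let eT' : {u : V // τ • u = u} ≃ Set.range fP × Set.range fD :=
      { toFun := fun u => (⟨fP u, u, rfl⟩, ⟨fD u, u, rfl⟩)
        invFun := fun q => ⟨q.1.1 + q.2.1, by
          obtain ⟨⟨w, w0, rfl⟩, ⟨a, a0, rfl⟩⟩ := q
          rw [smul_add, lTP, lTD]⟩
        left_inv := fun u => Subtype.ext (hneg u u.2)
        right_inv := fun q => by
          obtain ⟨⟨w, w0, rfl⟩, ⟨a, a0, rfl⟩⟩ := q
          refine Prod.ext (Subtype.ext ?_) (Subtype.ext ?_)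
          · show fP (fP w0 + fD a0) = fP w0
            rw [hfP, opApp_add, ← hfP, lPP, lPD, add_zero]
          · show fD (fP w0 + fD a0) = fD a0
            rw [hfD, opApp_add, ← hfD, lDP, lDD, zero_add] }
    rw [Nat.card_congr eT', Nat.card_prod, ← Nat.card_congr eC]

end Cfsg.Agent.Solv.AltSec
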