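import Cfsg.Agent.Lib.Solv.AltSec.Code
import Mathlib.Data.List.GetD

/-!
Certificates for linear relations among the translates of a vector in a module for a small
alternating group.
-/

set_option autoImplicit false

namespace Cfsg.Agent.Solv.AltSec

/-- Finite data describing the translates of a vector: representatives, and the elements of the
subgroup acting on the vector by scalars. -/
structure Spec where
  /-- degree -/
  n : ℕ
  /-- number of translates -/
  N : ℕ
  /-- packed codes of representatives -/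
  T : ℕ
  /-- codes of the subgroup, with scalars -/
  K : List (ℕ × ℤ)

/-- The code of a representative. -/
def Spec.tbl (S : Spec) (x : ℕ) : ℕ :=
  if x < S.N then S.T / (16 ^ S.n) ^ x % 16 ^ S.n else idCode S.n

/-- All representatives are even permutations. -/
def Spec.tblOK (S : Spec) (W : List (List (ℕ × ℕ))) : Bool :=
  W.length == S.N && (W.zipIdx).all fun q => wordOK S.n q.1 && Nat.beq (wcode S.n q.1) (S.tbl q.2)

theorem Spec.evn_tbl (S : Spec) (hn : S.n ≤ 16) {W : List (List (ℕ × ℕ))} (h : S.tblOK W = true) (x : ℕ) :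
    Evn S.n (S.tbl x) := by
  simp only [Spec.tblOK, Bool.and_eq_true, beq_iff_eq, List.all_eq_true, Nat.beq_eq] at h
  by_cases hx : x < S.N
  · obtain ⟨h1, h2⟩ := h.2 (W[x]'(h.1 ▸ hx), x) (by
      rw [List.mem_zipIdx_iff_getElem?]
      exact List.getElem?_eq_getElem _)
    rw [← h2]
    exact evn_wcode hn h1
  · rw [Spec.tbl, if_neg hx]
    exact (evn_id hn).1

/-- The subgroup list: each entry is a generator composed with an earlier entry. -/
def closeK (n : ℕ) (gens : List (List (ℕ × ℕ) × ℤ)) :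
    List (ℕ × ℕ) → List (ℕ × ℤ) → List (ℕ × ℤ)
  | [], acc => acc
  | (g, k) :: ps, acc => closeK n gens ps (acc ++
      [(comp n (wcode n (gens.getD g ([], 1)).1) (acc.getD k (idCode n, 1)).1,
        (gens.getD g ([], 1)).2 * (acc.getD k (idCode n, 1)).2)])

/-- Two coded relations are compared through their coefficients. -/
def coef : List (ℕ × ℤ) → ℕ → ℤ
  | [], _ => 0
  | q :: w, y => (if q.1 = y then q.2 else 0) + coef w y

/-- All indices are in range. -/
def bounded (N : ℕ) (w : List (ℕ × ℤ)) : Bool := w.all fun q => Nat.blt q.1 N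

/-- Parity mask of a relation. -/
def mask : List (ℕ × ℤ) → ℕ
  | [] => 0
  | q :: w => if q.2 % 2 = 0 then mask w else mask w ^^^ 2 ^ q.1

/-- The image of a coded relation under a permutation, from the proposed list of images. -/
def image (S : Spec) : List (ℕ × ℤ) → List (ℕ × ℕ) → List (ℕ × ℤ)
  | q :: w, j :: js => (j.1, q.2 * (S.K.getD j.2 (idCode S.n, 1)).2) :: image S w js
  | _, _ => []

/-- The proposed list of images is correct. -/
def imageOK (S : Spec) (g : ℕ) : List (ℕ × ℤ) → List (ℕ × ℕ) → Bool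
  | q :: w, j :: js =>
      Nat.beq (comp S.n g (S.tbl q.1)) (comp S.n (S.tbl j.1) (S.K.getD j.2 (idCode S.n, 1)).1) &&
        imageOK S g w js
  | [], [] => true
  | _, _ => false

/-- Scaling of a coded relation. -/
def scale (c : ℤ) (w : List (ℕ × ℤ)) : List (ℕ × ℤ) := w.map fun q => (q.1, c * q.2)

/-- A translate of one of the seeds: word, seed, coefficient, images. -/
structure Inst where
  /-- translating permutation -/
  g : List (ℕ × ℕ)
  /-- index of the seed -/
  s : ℕ
  /-- coefficient -/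
  c : ℤ
  /-- images -/
  js : List (ℕ × ℕ)

/-- The combination of translates. -/
def combine (S : Spec) (seeds : List (List (ℕ × ℤ))) : List Inst → List (ℕ × ℤ)
  | [] => []
  | i :: is => scale i.c (image S (seeds.getD i.s []) i.js) ++ combine S seeds is

/-- The combination is correctly computed. -/
def combineOK (S : Spec) (seeds : List (List (ℕ × ℤ))) (is : List Inst) : Bool :=
  is.all fun i => wordOK S.n i.g && imageOK S (wcode S.n i.g) (seeds.getD i.s []) i.js

section Semantics

variable {S : Spec} {V : Type*} [AddCommGroup V] [DistribMulAction (alternatingGroup (Fin S.n)) V]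

/-- A translate of the base vector. -/
noncomputable def Spec.f (S : Spec) [DistribMulAction (alternatingGroup (Fin S.n)) V] (v : V) (x : ℕ) : V :=
  el S.n (S.tbl x) • v

/-- The value of a coded relation. -/
noncomputable def Spec.ev (S : Spec) [DistribMulAction (alternatingGroup (Fin S.n)) V] (v : V) :
    List (ℕ × ℤ) → V
  | [] => 0
  | q :: w => q.2 • S.f v q.1 + S.ev v w

/-- The standing assumptions on the base vector. -/
structure Spec.Base (S : Spec) [DistribMulAction (alternatingGroup (Fin S.n)) V] (v : V) : Prop where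
  deg : S.n ≤ 16
  tbl : ∀ x, Evn S.n (S.tbl x)
  fix : ∀ q ∈ S.K, Evn S.n q.1 ∧ el S.n q.1 • v = q.2 • v

theorem closeK_spec {n : ℕ} (hn : n ≤ 16) [DistribMulAction (alternatingGroup (Fin n)) V] (v : V)
    (gens : List (List (ℕ × ℕ) × ℤ))
    (hg : ∀ g ∈ gens, wordOK n g.1 = true ∧ el n (wcode n g.1) • v = g.2 • v) :
    ∀ (ps : List (ℕ × ℕ)) (acc : List (ℕ × ℤ)),
      (∀ q ∈ acc, Evn n q.1 ∧ el n q.1 • v = q.2 • v) →
        ∀ q ∈ closeK n gens ps acc, Evn n q.1 ∧ el n q.1 • v = q.2 • v
  | [], _, hacc => hacc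
  | (g, k) :: ps, acc, hacc => by
    refine closeK_spec hn v gens hg ps _ fun q hq => ?_
    rcases List.mem_append.1 hq with h | h
    · exact hacc q h
    rw [List.mem_singleton] at h
    subst h
    have hgen : Evn n (wcode n (gens.getD g ([], 1)).1) ∧
        el n (wcode n (gens.getD g ([], 1)).1) • v = (gens.getD g ([], 1)).2 • v := by
      by_cases h : g < gens.length
      · rw [List.getD_eq_getElem _ _ h]
        exact ⟨evn_wcode hn (hg _ (List.getElem_mem h)).1, (hg _ (List.getElem_mem h)).2⟩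
      · rw [List.getD_eq_default _ _ (Nat.le_of_not_lt h)]
        exact ⟨(evn_id hn).1, by simp only [wcode, (evn_id hn).2, one_smul]⟩
    have hold : Evn n (acc.getD k (idCode n, 1)).1 ∧
        el n (acc.getD k (idCode n, 1)).1 • v = (acc.getD k (idCode n, 1)).2 • v := by
      by_cases h : k < acc.length
      · rw [List.getD_eq_getElem _ _ h]
        exact hacc _ (List.getElem_mem h)
      · rw [List.getD_eq_default _ _ (Nat.le_of_not_lt h)]
        exact ⟨(evn_id hn).1, by simp only [(evn_id hn).2, one_smul]⟩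
    obtain ⟨h1, h2⟩ := hgen.1.comp hn hold.1
    refine ⟨h1, ?_⟩
    simp only
    rw [h2, mul_smul, hold.2, smul_comm, hgen.2, smul_smul, mul_comm]

theorem base_of (hn : S.n ≤ 16) (v : V) {W : List (List (ℕ × ℕ))} (hW : S.tblOK W = true)
    (gens : List (List (ℕ × ℕ) × ℤ)) (ps : List (ℕ × ℕ)) (hK : S.K = closeK S.n gens ps [(idCode S.n, 1)])
    (hok : gens.all (fun g => wordOK S.n g.1) = true)
    (hfix : ∀ g ∈ gens, el S.n (wcode S.n g.1) • v = g.2 • v) : S.Base v := by
  refine ⟨hn, S.evn_tbl hn hW, ?_⟩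
  rw [hK]
  refine closeK_spec hn v gens (fun g hg => ⟨List.all_eq_true.1 hok g hg, hfix g hg⟩) ps _ fun q hq => ?_
  rw [List.mem_singleton] at hq
  subst hq
  exact ⟨(evn_id hn).1, by simp only [(evn_id hn).2, one_smul]⟩

theorem ev_append (v : V) : ∀ w w' : List (ℕ × ℤ), S.ev v (w ++ w') = S.ev v w + S.ev v w'
  | [], w' => by rw [List.nil_append, Spec.ev, zero_add]
  | q :: w, w' => by rw [List.cons_append, Spec.ev, Spec.ev, ev_append v w w', add_assoc]

theorem ev_scale (v : V) (c : ℤ) : ∀ w : List (ℕ × ℤ), S.ev v (scale c w) = c • S.ev v w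
  | [] => by rw [scale, List.map_nil, Spec.ev, smul_zero]
  | q :: w => by
    have h := ev_scale v c w
    simp only [scale, List.map_cons, Spec.ev] at h ⊢
    rw [h, smul_add, smul_smul]

theorem ev_image {v : V} (hb : S.Base v) {g : ℕ} (hg : Evn S.n g) :
    ∀ (w : List (ℕ × ℤ)) (js : List (ℕ × ℕ)), imageOK S g w js = true →
      S.ev v (image S w js) = el S.n g • S.ev v w
  | [], [], _ => (smul_zero _).symm
  | [], _ :: _, h => by simp [imageOK] at h
  | _ :: _, [], h => by simp [imageOK] at h
  | q :: w, j :: js, h => by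
    simp only [imageOK, Bool.and_eq_true, Nat.beq_eq] at h
    rw [image, Spec.ev, Spec.ev, ev_image hb hg w js h.2, smul_add]
    have hk : Evn S.n (S.K.getD j.2 (idCode S.n, 1)).1 ∧
        el S.n (S.K.getD j.2 (idCode S.n, 1)).1 • v = (S.K.getD j.2 (idCode S.n, 1)).2 • v := by
      by_cases hj : j.2 < S.K.length
      · rw [List.getD_eq_getElem _ _ hj]
        exact hb.fix _ (List.getElem_mem hj)
      · rw [List.getD_eq_default _ _ (Nat.le_of_not_lt hj)]
        exact ⟨(evn_id hb.deg).1, by simp only [(evn_id hb.deg).2, one_smul]⟩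
    have e1 := (hg.comp hb.deg (hb.tbl q.1)).2
    have e2 := ((hb.tbl j.1).comp hb.deg hk.1).2
    rw [h.1, e2] at e1
    congr 1
    simp only [Spec.f]
    rw [smul_comm (el S.n g) q.2 _, ← mul_smul (el S.n g), ← e1, mul_smul (el S.n (S.tbl j.1)), hk.2,
      smul_comm (el S.n (S.tbl j.1)) _ v, mul_smul]

theorem ev_combine {v : V} (hb : S.Base v) {seeds : List (List (ℕ × ℤ))}
    (h0 : ∀ w ∈ seeds, S.ev v w = 0) :
    ∀ is : List Inst, combineOK S seeds is = true → S.ev v (combine S seeds is) = 0
  | [], _ => rfl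
  | i :: is, h => by
    simp only [combineOK, List.all_cons, Bool.and_eq_true] at h
    have hs : S.ev v (seeds.getD i.s []) = 0 := by
      by_cases hi : i.s < seeds.length
      · rw [List.getD_eq_getElem _ _ hi]
        exact h0 _ (List.getElem_mem hi)
      · rw [List.getD_eq_default _ _ (Nat.le_of_not_lt hi)]
        rfl
    rw [combine, ev_append, ev_scale, ev_image hb (evn_wcode hb.deg h.1.1) _ _ h.1.2, hs, smul_zero,
      smul_zero, zero_add]
    exact ev_combine hb h0 is h.2

theorem ev_eq_sum (v : V) : ∀ w : List (ℕ × ℤ), bounded S.N w = true →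
    S.ev v w = ∑ y ∈ Finset.range S.N, coef w y • S.f v y
  | [], _ => by simp [Spec.ev, coef]
  | q :: w, h => by
    simp only [bounded, List.all_cons, Bool.and_eq_true, Nat.blt_eq] at h
    rw [Spec.ev, ev_eq_sum v w h.2]
    simp only [coef, add_smul, Finset.sum_add_distrib]
    congr 1
    rw [Finset.sum_eq_single q.1 (fun y _ hy => by rw [if_neg hy.symm, zero_smul])
      (fun hq => absurd (Finset.mem_range.2 h.1) hq), if_pos rfl]

/-- Coefficients agree, modulo `p` (`p = 0` for exact agreement). -/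
def eqCoef (N : ℕ) (p : ℤ) (w w' : List (ℕ × ℤ)) : Bool :=
  bounded N w && bounded N w' && (List.range N).all fun y => (coef w y - coef w' y) % p == 0

theorem ev_congr {p : ℤ} (v : V) (hp : ∀ u : V, p • u = 0) {w w' : List (ℕ × ℤ)}
    (h : eqCoef S.N p w w' = true) : S.ev v w = S.ev v w' := by
  simp only [eqCoef, Bool.and_eq_true, List.all_eq_true, beq_iff_eq, List.mem_range] at h
  rw [ev_eq_sum v w h.1.1, ev_eq_sum v w' h.1.2]
  refine Finset.sum_congr rfl fun y hy => ?_
  obtain ⟨d, hd⟩ := Int.dvd_of_emod_eq_zero (h.2 y (Finset.mem_range.1 hy))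
  rw [← sub_eq_zero, ← sub_smul, hd, mul_smul, hp]

theorem ev_eq_mask (v : V) (h2 : ∀ u : V, u + u = 0) : ∀ w : List (ℕ × ℤ), bounded S.N w = true →
    S.ev v w = ∑ y ∈ Finset.range S.N, if (mask w).testBit y then S.f v y else 0
  | [], _ => by simp [Spec.ev, mask]
  | q :: w, h => by
    simp only [bounded, List.all_cons, Bool.and_eq_true, Nat.blt_eq] at h
    rw [Spec.ev, ev_eq_mask v h2 w h.2, mask]
    have hdbl : ∀ (z : ℤ) (u : V), (2 * z) • u = 0 := fun z u => by
      rw [two_mul, add_smul]
      exact h2 _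
    by_cases he : q.2 % 2 = 0
    · rw [if_pos he]
      obtain ⟨z, hz⟩ := Int.dvd_of_emod_eq_zero he
      rw [hz, hdbl, zero_add]
    · rw [if_neg he]
      have hq : q.2 • S.f v q.1 = S.f v q.1 := by
        rw [← sub_eq_zero]
        obtain ⟨z, hz⟩ : (2 : ℤ) ∣ q.2 - 1 := by omega
        calc q.2 • S.f v q.1 - S.f v q.1 = (q.2 - 1) • S.f v q.1 := by rw [sub_smul, one_smul]
          _ = 0 := by rw [hz, hdbl]
      rw [hq, ← Finset.add_sum_erase _ _ (Finset.mem_range.2 h.1),
        ← Finset.add_sum_erase _ (fun y => if (mask w ^^^ 2 ^ q.1).testBit y then S.f v y else 0)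
          (Finset.mem_range.2 h.1)]
      have hrest : ∀ y ∈ (Finset.range S.N).erase q.1,
          (if (mask w ^^^ 2 ^ q.1).testBit y then S.f v y else 0) = if (mask w).testBit y then S.f v y else 0 := by
        intro y hy
        rw [Nat.testBit_xor, Nat.testBit_two_pow_of_ne (Finset.ne_of_mem_erase hy).symm, Bool.xor_false]
      rw [Finset.sum_congr rfl hrest, ← add_assoc]
      congr 1
      rw [Nat.testBit_xor, Nat.testBit_two_pow_self, Bool.xor_true]
      cases (mask w).testBit q.1
      · simp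
      · simpa using h2 _

/-- Relations have equal parity masks. -/
def eqMask (N : ℕ) (w w' : List (ℕ × ℤ)) : Bool :=
  bounded N w && bounded N w' && Nat.beq (mask w) (mask w')

theorem ev_congr_two (v : V) (h2 : ∀ u : V, u + u = 0) {w w' : List (ℕ × ℤ)}
    (h : eqMask S.N w w' = true) : S.ev v w = S.ev v w' := by
  simp only [eqMask, Bool.and_eq_true, Nat.beq_eq] at h
  rw [ev_eq_mask v h2 w h.1.1, ev_eq_mask v h2 w' h.1.2, h.2]

/-- Congruence of coded relations: modulo two through masks, otherwise through coefficients. -/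
def eqRel (N : ℕ) (p : ℤ) (w w' : List (ℕ × ℤ)) : Bool :=
  if p = 2 then eqMask N w w' else eqCoef N p w w'

theorem ev_eqRel {p : ℤ} (v : V) (hp : ∀ u : V, p • u = 0) {w w' : List (ℕ × ℤ)}
    (h : eqRel S.N p w w' = true) : S.ev v w = S.ev v w' := by
  rw [eqRel] at h
  split_ifs at h with he
  · refine ev_congr_two v (fun u => ?_) h
    rw [← hp u, he, two_smul]
  · exact ev_congr v hp h

/-- A relation invariant under generators, up to known relations. -/
def fixOK (S : Spec) (p : ℤ) (seeds : List (List (ℕ × ℤ))) (w : List (ℕ × ℤ))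
    (L : List (List (ℕ × ℕ) × List (ℕ × ℕ) × List Inst)) : Bool :=
  L.all fun g => wordOK S.n g.1 && imageOK S (wcode S.n g.1) w g.2.1 && combineOK S seeds g.2.2 &&
    eqRel S.N p (image S w g.2.1) (w ++ combine S seeds g.2.2)

theorem ev_fix {p : ℤ} {v : V} (hb : S.Base v) (hp : ∀ u : V, p • u = 0)
    {seeds : List (List (ℕ × ℤ))} (h0 : ∀ w' ∈ seeds, S.ev v w' = 0) {w : List (ℕ × ℤ)}
    {L : List (List (ℕ × ℕ) × List (ℕ × ℕ) × List Inst)} (h : fixOK S p seeds w L = true)
    (hR : ∀ u : V, (∀ g ∈ L, el S.n (wcode S.n g.1) • u = u) → u = 0) : S.ev v w = 0 := by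
  refine hR _ fun g hg => ?_
  have hg' := (List.all_eq_true.1 h) g hg
  simp only [Bool.and_eq_true] at hg'
  obtain ⟨⟨⟨a1, a2⟩, a3⟩, a4⟩ := hg'
  rw [← ev_image hb (evn_wcode hb.deg a1) _ _ a2, ev_eqRel v hp a4, ev_append, ev_combine hb h0 _ a3, add_zero]

theorem ev_invariant {p : ℤ} {v : V} (hb : S.Base v) (hp : ∀ u : V, p • u = 0) {w : List (ℕ × ℤ)}
    {L : List (List (ℕ × ℕ) × List (ℕ × ℕ) × List Inst)} (h : fixOK S p [] w L = true) :
    ∀ g ∈ L, el S.n (wcode S.n g.1) • S.ev v w = S.ev v w := by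
  intro g hg
  have hg' := (List.all_eq_true.1 h) g hg
  simp only [Bool.and_eq_true] at hg'
  obtain ⟨⟨⟨a1, a2⟩, a3⟩, a4⟩ := hg'
  rw [← ev_image hb (evn_wcode hb.deg a1) _ _ a2, ev_eqRel v hp a4, ev_append,
    ev_combine hb (fun w hw => absurd hw List.not_mem_nil) _ a3, add_zero]

/-- The final combination: a multiple of the base vector. -/
def finalOK (S : Spec) (p : ℤ) (seeds : List (List (ℕ × ℤ))) (is : List Inst) (m : ℤ) : Bool :=
  combineOK S seeds is && eqRel S.N p (combine S seeds is) [(0, m)] && Nat.beq (S.tbl 0) (idCode S.n)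

theorem final_zero {p : ℤ} {v : V} (hb : S.Base v) (hp : ∀ u : V, p • u = 0)
    {seeds : List (List (ℕ × ℤ))} (h0 : ∀ w ∈ seeds, S.ev v w = 0) {is : List Inst} {m : ℤ}
    (h : finalOK S p seeds is m = true) : m • v = 0 := by
  simp only [finalOK, Bool.and_eq_true, Nat.beq_eq] at h
  have := ev_eqRel v hp h.1.2
  rw [ev_combine hb h0 is h.1.1] at this
  rw [Spec.ev, Spec.ev, add_zero, Spec.f, h.2, (evn_id hb.deg).2, one_smul] at this
  exact this.symm

end Semantics

end Cfsg.Agent.Solv.AltSec
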