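import Cfsg.Agent.Lib.Solv.AltSec.Ops

/-!
Moving fixed vectors by coded permutations, and scalar subgroups.
-/

set_option autoImplicit false

namespace Cfsg.Agent.Solv.AltSec

section Tools

variable {n : ℕ} {V : Type*} [AddCommGroup V] [DistribMulAction (alternatingGroup (Fin n)) V]

/-- The vectors on which a coded list acts as a scalar. -/
noncomputable def opSub (n : ℕ) [DistribMulAction (alternatingGroup (Fin n)) V] (O : List (ℕ × ℤ)) (s : ℤ) :
    AddSubgroup V :=
  (opHom (V := V) n O - s • AddMonoidHom.id V).ker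

theorem mem_opSub {O : List (ℕ × ℤ)} {s : ℤ} {u : V} : u ∈ opSub n O s ↔ opApp n O u = s • u := by
  simp [opSub, opHom, AddMonoidHom.mem_ker, sub_eq_zero]

/-- The vectors on which an element acts as a scalar. -/
def eigSub (T : alternatingGroup (Fin n)) (s : ℤ) : AddSubgroup V :=
  (DistribMulAction.toAddMonoidHom V T - s • AddMonoidHom.id V).ker

theorem mem_eigSub {T : alternatingGroup (Fin n)} {s : ℤ} {u : V} : u ∈ eigSub T s ↔ T • u = s • u := by
  simp [eigSub, AddMonoidHom.mem_ker, sub_eq_zero]

theorem mem_eigSub_one {T : alternatingGroup (Fin n)} {u : V} : u ∈ eigSub T 1 ↔ T • u = u := by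
  rw [mem_eigSub, one_smul]

/-- Equal codes of words give equal products. -/
theorem rel (hn : n ≤ 16) (G : List (List (ℕ × ℕ))) (hG : G.all (wordOK n) = true) (w w' : List ℕ)
    (h : evalW n G w = evalW n G w') :
    (w.map fun i => el n (wcode n (G.getD i []))).prod = (w'.map fun i => el n (wcode n (G.getD i []))).prod := by
  have key : ∀ w : List ℕ, el n (evalW n G w) = (w.map fun i => el n (wcode n (G.getD i []))).prod := by
    intro w
    induction w with
    | nil => rw [evalW, (evn_id hn).2, List.map_nil, List.prod_nil]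
    | cons i w ih =>
      have hi : Evn n (wcode n (G.getD i [])) := by
        by_cases hi : i < G.length
        · rw [List.getD_eq_getElem _ _ hi]
          exact evn_wcode hn (List.all_eq_true.1 hG _ (List.getElem_mem hi))
        · rw [List.getD_eq_default _ _ (Nat.le_of_not_lt hi)]
          exact (evn_id hn).1
      have hw := (evalW_spec hn (G := G) (List.all_eq_true.1 hG) ⊤ (fun _ _ => trivial) w).1
      rw [evalW, (hi.comp hn hw).2, ih, List.map_cons, List.prod_cons]
  rw [← key, ← key, h]

/-- Each of the new elements times `σ` is `σ` times a word in the old ones. -/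
def moveOK (n : ℕ) (σ : List (ℕ × ℕ)) (G G' : List (List (ℕ × ℕ))) (W : List (List ℕ)) : Bool :=
  wordOK n σ && G.all (wordOK n) && G'.all (wordOK n) &&
    G'.all fun g => W.any fun w =>
      Nat.beq (comp n (wcode n g) (wcode n σ)) (comp n (wcode n σ) (evalW n G w))

theorem move (hn : n ≤ 16) {σ : List (ℕ × ℕ)} {G G' : List (List (ℕ × ℕ))} {W : List (List ℕ)}
    (h : moveOK n σ G G' W = true) (u : V) (hu : ∀ g ∈ G, el n (wcode n g) • u = u) :
    ∀ g ∈ G', el n (wcode n g) • el n (wcode n σ) • u = el n (wcode n σ) • u := by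
  simp only [moveOK, Bool.and_eq_true, List.all_eq_true, List.any_eq_true, Nat.beq_eq] at h
  obtain ⟨⟨⟨hσ, hG⟩, hG'⟩, hmv⟩ := h
  intro g hg
  obtain ⟨w, -, hw⟩ := hmv g hg
  obtain ⟨we, wm⟩ := evalW_spec hn hG (MulAction.stabilizer (alternatingGroup (Fin n)) u) hu w
  rw [← mul_smul, ← ((evn_wcode hn (hG' g hg)).comp hn (evn_wcode hn hσ)).2, hw,
    ((evn_wcode hn hσ).comp hn we).2, mul_smul, MulAction.mem_stabilizer_iff.1 wm]

theorem el_nil (hn : n ≤ 16) (u : V) : el n (wcode n []) • u = u := by
  rw [wcode, (evn_id hn).2, one_smul]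

/-- Moving by the identity. -/
theorem move_id (hn : n ≤ 16) {G G' : List (List (ℕ × ℕ))} {W : List (List ℕ)}
    (h : moveOK n [] G G' W = true) (u : V) (hu : ∀ g ∈ G, el n (wcode n g) • u = u) :
    ∀ g ∈ G', el n (wcode n g) • u = u := by
  intro g hg
  have := move hn h u hu g hg
  rwa [el_nil hn] at this

/-- A coded list supported on a generated subgroup acts on its fixed vectors by its augmentation. -/
theorem opApp_fix (hn : n ≤ 16) {G : List (List (ℕ × ℕ))} {O : List (List (ℕ × ℕ) × ℤ)} {W : List (List ℕ)}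
    (h : moveOK n [] G (O.map Prod.fst) W = true) {u : V} (hu : ∀ g ∈ G, el n (wcode n g) • u = u) :
    opApp n (ofWords n O) u = (O.map Prod.snd).sum • u := by
  rw [opApp_fixed (fun q hq => by
    obtain ⟨a, ha, rfl⟩ := List.mem_map.1 hq
    exact move_id hn h u hu _ (List.mem_map_of_mem ha))]
  congr 1
  simp [ofWords, List.map_map, Function.comp_def]

end Tools

end Cfsg.Agent.Solv.AltSec
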