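import Cfsg.Agent.Lib.Solv.AltSec.Engine
import Mathlib.GroupTheory.Solvable
import Mathlib.GroupTheory.PGroup

/-!
Nonsolvable subgroups of small alternating groups fixing vectors of a module.
-/

set_option autoImplicit false

namespace Cfsg.Agent.Solv.AltSec

/-- No nonzero vector is fixed by a nonsolvable subgroup. -/
def Hyp (n : ℕ) (V : Type*) [AddCommGroup V] [DistribMulAction (alternatingGroup (Fin n)) V] : Prop :=
  ∀ R : Subgroup (alternatingGroup (Fin n)), ¬ Group.IsSolvable R → ∀ u : V, (∀ r ∈ R, r • u = u) → u = 0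

/-- The code of a word in given generators. -/
def evalW (n : ℕ) (G : List (List (ℕ × ℕ))) : List ℕ → ℕ
  | [] => idCode n
  | i :: w => comp n (wcode n (G.getD i [])) (evalW n G w)

/-- Each generator is a commutator of elements of the subgroup, and the first one is not trivial. -/
def commOK (n : ℕ) (G : List (List (ℕ × ℕ))) (cc : List (List ℕ × List ℕ × List ℕ × List ℕ)) : Bool :=
  G.all (fun g => wordOK n g) && cc.length == G.length &&
  ((G.zip cc).all fun q =>
    Nat.beq (comp n (comp n (evalW n G q.2.1) (evalW n G q.2.2.1)) (comp n (evalW n G q.2.2.2.1) (evalW n G q.2.2.2.2)))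
        (wcode n q.1) &&
      Nat.beq (comp n (evalW n G q.2.1) (evalW n G q.2.2.2.1)) (idCode n) &&
      Nat.beq (comp n (evalW n G q.2.2.1) (evalW n G q.2.2.2.2)) (idCode n)) &&
  ((List.range n).any fun i => app (wcode n (G.getD 0 [])) i != i)

variable {n : ℕ}

theorem evalW_spec (hn : n ≤ 16) {G : List (List (ℕ × ℕ))} (hG : ∀ g ∈ G, wordOK n g = true)
    (R : Subgroup (alternatingGroup (Fin n))) (hR : ∀ g ∈ G, el n (wcode n g) ∈ R) :
    ∀ w : List ℕ, Evn n (evalW n G w) ∧ el n (evalW n G w) ∈ R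
  | [] => ⟨(evn_id hn).1, by rw [evalW, (evn_id hn).2]; exact R.one_mem⟩
  | i :: w => by
    obtain ⟨h1, h2⟩ := evalW_spec hn hG R hR w
    have hg : Evn n (wcode n (G.getD i [])) ∧ el n (wcode n (G.getD i [])) ∈ R := by
      by_cases hi : i < G.length
      · rw [List.getD_eq_getElem _ _ hi]
        exact ⟨evn_wcode hn (hG _ (List.getElem_mem hi)), hR _ (List.getElem_mem hi)⟩
      · rw [List.getD_eq_default _ _ (Nat.le_of_not_lt hi)]
        exact ⟨(evn_id hn).1, by rw [wcode, (evn_id hn).2]; exact R.one_mem⟩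
    obtain ⟨c1, c2⟩ := hg.1.comp hn h1
    exact ⟨c1, by rw [evalW, c2]; exact R.mul_mem hg.2 h2⟩

/-- The generators generate a nonsolvable subgroup. -/
theorem not_solvable (hn : n ≤ 16) {G : List (List (ℕ × ℕ))} {cc : List (List ℕ × List ℕ × List ℕ × List ℕ)}
    (h : commOK n G cc = true) :
    ¬ Group.IsSolvable ↥(Subgroup.closure {x | ∃ g ∈ G, x = el n (wcode n g)} : Subgroup (alternatingGroup (Fin n))) := by
  simp only [commOK, Bool.and_eq_true, List.all_eq_true, beq_iff_eq, Nat.beq_eq, List.any_eq_true,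
    List.mem_range, bne_iff_ne, ne_eq] at h
  obtain ⟨⟨⟨hG, hlen⟩, hcc⟩, i, hi, hne⟩ := h
  set R : Subgroup (alternatingGroup (Fin n)) := Subgroup.closure {x | ∃ g ∈ G, x = el n (wcode n g)} with hRdef
  have hmem : ∀ g ∈ G, el n (wcode n g) ∈ R := fun g hg => Subgroup.subset_closure ⟨g, hg, rfl⟩
  intro hsolv
  have h0 : (0 : ℕ) < G.length := by
    by_contra h0
    rw [List.getD_eq_default _ _ (Nat.le_of_not_lt h0)] at hne
    apply hne
    rw [wcode, idCode, app_pack n id (fun j hj => lt_of_lt_of_le hj hn) i hi, id]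
  have hgen : ∀ k (hk : k < G.length), el n (wcode n (G[k])) ∈ (⁅R, R⁆ : Subgroup _) := by
    intro k hk
    have hk2 : k < cc.length := hlen ▸ hk
    have hmz : (G[k], cc[k]) ∈ G.zip cc := List.mem_iff_getElem.2 ⟨k, by
      rw [List.length_zip]
      exact lt_min hk hk2, List.getElem_zip⟩
    obtain ⟨⟨he, hu⟩, hv⟩ := hcc _ hmz
    obtain ⟨u1, u2⟩ := evalW_spec hn hG R hmem (cc[k]).1
    obtain ⟨v1, v2⟩ := evalW_spec hn hG R hmem (cc[k]).2.1
    obtain ⟨u1', -⟩ := evalW_spec hn hG R hmem (cc[k]).2.2.1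
    obtain ⟨v1', -⟩ := evalW_spec hn hG R hmem (cc[k]).2.2.2
    have eu := (u1.comp hn u1').2
    have ev := (v1.comp hn v1').2
    rw [hu, (evn_id hn).2] at eu
    rw [hv, (evn_id hn).2] at ev
    have e := ((u1.comp hn v1).1.comp hn (u1'.comp hn v1').1).2
    rw [he, (u1.comp hn v1).2, (u1'.comp hn v1').2] at e
    rw [e, eq_inv_of_mul_eq_one_right eu.symm, eq_inv_of_mul_eq_one_right ev.symm, ← mul_assoc,
      ← commutatorElement_def]
    exact Subgroup.commutator_mem_commutator u2 v2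
  have hperf : R ≤ ⁅R, R⁆ := (Subgroup.closure_le _).2 (by
    rintro x ⟨g, hg, rfl⟩
    obtain ⟨k, hk, rfl⟩ := List.mem_iff_getElem.1 hg
    exact hgen k hk)
  have hne1 : R ≠ ⊥ := by
    intro hb
    have h1 := hmem _ (List.getElem_mem h0)
    rw [hb, Subgroup.mem_bot] at h1
    rw [List.getD_eq_getElem _ _ h0] at hne
    apply hne
    have hev := evn_wcode hn (hG _ (List.getElem_mem h0))
    rw [← hev.1.val ⟨i, hi⟩, ← el_val hev, h1]
    rfl
  haveI : Nontrivial R := (Subgroup.nontrivial_iff_ne_bot _).2 hne1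
  have hlt := Group.IsSolvable.commutator_lt_top_of_nontrivial R
  refine hlt.ne (eq_top_iff.2 fun x _ => ?_)
  have hx := hperf x.2
  rw [← Subgroup.map_subtype_commutator] at hx
  obtain ⟨y, hy, hyx⟩ := hx
  rwa [Subtype.ext hyx] at hy

/-- A vector fixed by the generators of such a subgroup is zero. -/
theorem Hyp.noFix {V : Type*} [AddCommGroup V] [DistribMulAction (alternatingGroup (Fin n)) V]
    (H : Hyp n V) (hn : n ≤ 16) {G : List (List (ℕ × ℕ))} {cc : List (List ℕ × List ℕ × List ℕ × List ℕ)}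
    (h : commOK n G cc = true) (u : V) (hu : ∀ g ∈ G, el n (wcode n g) • u = u) : u = 0 := by
  refine H _ (not_solvable hn h) u fun r hr => ?_
  induction hr using Subgroup.closure_induction with
  | mem x hx => obtain ⟨g, hg, rfl⟩ := hx; exact hu g hg
  | one => exact one_smul _ _
  | mul x y _ _ hx hy => rw [mul_smul, hy, hx]
  | inv x _ hx => rw [inv_smul_eq_iff, hx]

/-- A seed fixed by such a subgroup vanishes. -/
theorem Hyp.seed {S : Spec} {V : Type*} [AddCommGroup V] [DistribMulAction (alternatingGroup (Fin S.n)) V]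
    (H : Hyp S.n V) {v : V} (hb : S.Base v) {p : ℤ} (hp : ∀ u : V, p • u = 0)
    {seeds : List (List (ℕ × ℤ))} (h0 : ∀ w' ∈ seeds, S.ev v w' = 0) {w : List (ℕ × ℤ)}
    {L : List (List (ℕ × ℕ) × List (ℕ × ℕ) × List Inst)} {G : List (List (ℕ × ℕ))}
    {cc : List (List ℕ × List ℕ × List ℕ × List ℕ)} (hc : commOK S.n G cc = true)
    (h : fixOK S p seeds w L = true ∧ L.map Prod.fst = G) : S.ev v w = 0 :=
  ev_fix hb hp h0 h.1 fun u hu => H.noFix hb.deg hc u fun g hg => by
    rw [← h.2, List.mem_map] at hg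
    obtain ⟨a, ha, rfl⟩ := hg
    exact hu a ha

end Cfsg.Agent.Solv.AltSec
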