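import Cfsg.Agent.Lib.Solv.AltSec.Hyp
import Mathlib.Tactic.Abel

/-!
Elements of integral group rings of small alternating groups, as coded lists, acting on modules.
-/

set_option autoImplicit false

namespace Cfsg.Agent.Solv.AltSec

/-- Value of a coded list through an arbitrary map. -/
def linVal {V : Type*} [AddCommGroup V] (h : ℕ → V) : List (ℕ × ℤ) → V
  | [] => 0
  | q :: w => q.2 • h q.1 + linVal h w

/-- All permutations in the list are even. -/
def Evns (n : ℕ) (O : List (ℕ × ℤ)) : Prop := ∀ q ∈ O, Evn n q.1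

/-- The coded list of a list of words. -/
def ofWords (n : ℕ) (O : List (List (ℕ × ℕ) × ℤ)) : List (ℕ × ℤ) := O.map fun q => (wcode n q.1, q.2)

theorem evns_ofWords {n : ℕ} (hn : n ≤ 16) {O : List (List (ℕ × ℕ) × ℤ)}
    (h : O.all (fun q => wordOK n q.1) = true) : Evns n (ofWords n O) := by
  intro q hq
  obtain ⟨a, ha, rfl⟩ := List.mem_map.1 hq
  exact evn_wcode hn (List.all_eq_true.1 h a ha)

/-- Left multiplication. -/
def lmulOp (n g : ℕ) (O : List (ℕ × ℤ)) : List (ℕ × ℤ) := O.map fun q => (comp n g q.1, q.2)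

/-- Right multiplication. -/
def rmulOp (n : ℕ) (O : List (ℕ × ℤ)) (g : ℕ) : List (ℕ × ℤ) := O.map fun q => (comp n q.1 g, q.2)

/-- Product in the group ring. -/
def mulOp (n : ℕ) : List (ℕ × ℤ) → List (ℕ × ℤ) → List (ℕ × ℤ)
  | [], _ => []
  | q :: O, P => scale q.2 (lmulOp n q.1 P) ++ mulOp n O P

/-- Congruence of coded lists, tested at the listed keys. -/
def opEq (p : ℤ) (keys : List ℕ) (O O' : List (ℕ × ℤ)) : Bool :=
  (O ++ O').all (fun q => keys.contains q.1) && keys.all fun k => (coef O k - coef O' k) % p == 0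

/-- Images of a base point under the permutations of a coded list. -/
def opImg (S : Spec) : List (ℕ × ℤ) → List (ℕ × ℕ) → List (ℕ × ℤ)
  | q :: O, j :: js => (j.1, q.2 * (S.K.getD j.2 (idCode S.n, 1)).2) :: opImg S O js
  | _, _ => []

/-- Correctness of the proposed images. -/
def opImgOK (S : Spec) (x : ℕ) : List (ℕ × ℤ) → List (ℕ × ℕ) → Bool
  | q :: O, j :: js =>
      Nat.beq (comp S.n q.1 (S.tbl x)) (comp S.n (S.tbl j.1) (S.K.getD j.2 (idCode S.n, 1)).1) &&
        opImgOK S x O js
  | [], [] => true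
  | _, _ => false

/-- The relation saying that a coded list acts on a translate as the scalar `m`. -/
def opRel (S : Spec) (x : ℕ) (O : List (ℕ × ℤ)) (js : List (ℕ × ℕ)) (m : ℤ) : List (ℕ × ℤ) :=
  opImg S O js ++ [(x, -m)]

section Semantics

variable {n : ℕ} {V : Type*} [AddCommGroup V] [DistribMulAction (alternatingGroup (Fin n)) V]

/-- The action of a coded list. -/
noncomputable def opApp (n : ℕ) [DistribMulAction (alternatingGroup (Fin n)) V] (O : List (ℕ × ℤ)) (u : V) : V :=
  linVal (fun c => el n c • u) O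

theorem linVal_append (h : ℕ → V) : ∀ w w' : List (ℕ × ℤ), linVal h (w ++ w') = linVal h w + linVal h w'
  | [], w' => by rw [List.nil_append, linVal, zero_add]
  | q :: w, w' => by rw [List.cons_append, linVal, linVal, linVal_append h w w', add_assoc]

theorem linVal_scale (h : ℕ → V) (c : ℤ) : ∀ w : List (ℕ × ℤ), linVal h (scale c w) = c • linVal h w
  | [] => by rw [scale, List.map_nil, linVal, smul_zero]
  | q :: w => by
    have e := linVal_scale h c w
    simp only [scale, List.map_cons, linVal] at e ⊢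
    rw [e, smul_add, mul_smul]

theorem linVal_sum (h : ℕ → V) (s : Finset ℕ) : ∀ w : List (ℕ × ℤ), (∀ q ∈ w, q.1 ∈ s) →
    linVal h w = ∑ y ∈ s, coef w y • h y
  | [], _ => by simp [linVal, coef]
  | q :: w, hs => by
    rw [linVal, linVal_sum h s w fun r hr => hs r (List.mem_cons_of_mem _ hr)]
    simp only [coef, add_smul, Finset.sum_add_distrib]
    congr 1
    rw [Finset.sum_eq_single q.1 (fun y _ hy => by rw [if_neg hy.symm, zero_smul])
      (fun hq => absurd (hs q List.mem_cons_self) hq), if_pos rfl]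

theorem linVal_congr {p : ℤ} (hp : ∀ u : V, p • u = 0) (h : ℕ → V) {keys : List ℕ} {w w' : List (ℕ × ℤ)}
    (he : opEq p keys w w' = true) : linVal h w = linVal h w' := by
  simp only [opEq, Bool.and_eq_true, List.all_eq_true, List.contains_iff_mem, beq_iff_eq] at he
  rw [linVal_sum h keys.toFinset w fun q hq => List.mem_toFinset.2 (he.1 q (List.mem_append_left _ hq)),
    linVal_sum h keys.toFinset w' fun q hq => List.mem_toFinset.2 (he.1 q (List.mem_append_right _ hq))]
  refine Finset.sum_congr rfl fun y hy => ?_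
  obtain ⟨d, hd⟩ := Int.dvd_of_emod_eq_zero (he.2 y (List.mem_toFinset.1 hy))
  rw [← sub_eq_zero, ← sub_smul, hd, mul_smul, hp]

theorem opApp_congr {p : ℤ} (hp : ∀ u : V, p • u = 0) {keys : List ℕ} {O O' : List (ℕ × ℤ)}
    (he : opEq p keys O O' = true) (u : V) : opApp n O u = opApp n O' u := linVal_congr hp _ he

theorem opApp_add : ∀ (O : List (ℕ × ℤ)) (u u' : V), opApp n O (u + u') = opApp n O u + opApp n O u'
  | [], u, u' => (add_zero (0 : V)).symm
  | q :: O, u, u' => by
    have e := opApp_add O u u'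
    simp only [opApp, linVal] at e ⊢
    rw [e, smul_add, smul_add]
    abel

/-- A coded list as an additive map. -/
noncomputable def opHom (n : ℕ) [DistribMulAction (alternatingGroup (Fin n)) V] (O : List (ℕ × ℤ)) : V →+ V :=
  AddMonoidHom.mk' (opApp n O) (opApp_add O)

theorem opApp_zero (O : List (ℕ × ℤ)) : opApp n O (0 : V) = 0 := map_zero (opHom n O)

theorem opApp_sub (O : List (ℕ × ℤ)) (u u' : V) : opApp n O (u - u') = opApp n O u - opApp n O u' :=
  map_sub (opHom n O) u u'

theorem opApp_zsmul (O : List (ℕ × ℤ)) (m : ℤ) (u : V) : opApp n O (m • u) = m • opApp n O u :=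
  map_zsmul (opHom n O) m u

theorem opApp_fixed {O : List (ℕ × ℤ)} {u : V} (h : ∀ q ∈ O, el n q.1 • u = u) :
    opApp n O u = (O.map Prod.snd).sum • u := by
  induction O with
  | nil => simp [opApp, linVal]
  | cons q O ih =>
    have e := ih fun r hr => h r (List.mem_cons_of_mem _ hr)
    simp only [opApp, linVal, List.map_cons, List.sum_cons] at e ⊢
    rw [e, h q List.mem_cons_self, add_smul]

theorem opApp_lmul (hn : n ≤ 16) {g : ℕ} (hg : Evn n g) :
    ∀ {O : List (ℕ × ℤ)}, Evns n O → ∀ u : V, opApp n (lmulOp n g O) u = el n g • opApp n O u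
  | [], _, u => (smul_zero _).symm
  | q :: O, hO, u => by
    have e := opApp_lmul hn hg (O := O) (fun r hr => hO r (List.mem_cons_of_mem _ hr)) u
    simp only [opApp, lmulOp, List.map_cons, linVal] at e ⊢
    rw [e, (hg.comp hn (hO q List.mem_cons_self)).2, mul_smul, smul_add, smul_comm (el n g) q.2]

theorem opApp_rmul (hn : n ≤ 16) {g : ℕ} (hg : Evn n g) :
    ∀ {O : List (ℕ × ℤ)}, Evns n O → ∀ u : V, opApp n (rmulOp n O g) u = opApp n O (el n g • u)
  | [], _, u => rfl
  | q :: O, hO, u => by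
    have e := opApp_rmul hn hg (O := O) (fun r hr => hO r (List.mem_cons_of_mem _ hr)) u
    simp only [opApp, rmulOp, List.map_cons, linVal] at e ⊢
    rw [e, ((hO q List.mem_cons_self).comp hn hg).2, mul_smul]

theorem opApp_mul (hn : n ≤ 16) : ∀ {O P : List (ℕ × ℤ)}, Evns n O → Evns n P → ∀ u : V,
    opApp n (mulOp n O P) u = opApp n O (opApp n P u)
  | [], _, _, _, u => rfl
  | q :: O, P, hO, hP, u => by
    have e := opApp_mul hn (O := O) (fun r hr => hO r (List.mem_cons_of_mem _ hr)) hP u
    have e2 := opApp_lmul hn (hO q List.mem_cons_self) hP u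
    rw [mulOp]
    simp only [opApp, linVal, linVal_append, linVal_scale] at e e2 ⊢
    rw [e, e2]

/-- Checking that conjugation carries one coded list to another. -/
def conjOK (n : ℕ) (p : ℤ) (g : List (ℕ × ℕ)) (O O' : List (ℕ × ℤ)) : Bool :=
  wordOK n g && opEq p ((lmulOp n (wcode n g) O).map Prod.fst) (lmulOp n (wcode n g) O) (rmulOp n O' (wcode n g))

theorem opApp_conj {p : ℤ} (hp : ∀ u : V, p • u = 0) (hn : n ≤ 16) {g : List (ℕ × ℕ)} {O O' : List (ℕ × ℤ)}
    (hO : Evns n O) (hO' : Evns n O') (h : conjOK n p g O O' = true) (u : V) :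
    el n (wcode n g) • opApp n O u = opApp n O' (el n (wcode n g) • u) := by
  simp only [conjOK, Bool.and_eq_true] at h
  rw [← opApp_lmul hn (evn_wcode hn h.1) hO, opApp_congr hp h.2, opApp_rmul hn (evn_wcode hn h.1) hO']

/-- Two operators commute if the first commutes with every permutation of the second. -/
theorem opApp_comm {O P : List (ℕ × ℤ)} (h : ∀ q ∈ P, ∀ u : V, el n q.1 • opApp n O u = opApp n O (el n q.1 • u))
    (u : V) : opApp n P (opApp n O u) = opApp n O (opApp n P u) := by
  induction P with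
  | nil => exact (opApp_zero O).symm
  | cons q P ih =>
    have e := ih fun r hr => h r (List.mem_cons_of_mem _ hr)
    show q.2 • el n q.1 • opApp n O u + opApp n P (opApp n O u) = opApp n O (q.2 • el n q.1 • u + opApp n P u)
    rw [e, opApp_add, opApp_zsmul, h q List.mem_cons_self]

end Semantics

section Relations

variable {S : Spec} {V : Type*} [AddCommGroup V] [DistribMulAction (alternatingGroup (Fin S.n)) V]

theorem ev_opImg {v : V} (hb : S.Base v) (x : ℕ) : ∀ (O : List (ℕ × ℤ)) (js : List (ℕ × ℕ)),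
    Evns S.n O → opImgOK S x O js = true → S.ev v (opImg S O js) = opApp S.n O (S.f v x)
  | [], [], _, _ => rfl
  | [], _ :: _, _, h => by simp [opImgOK] at h
  | _ :: _, [], _, h => by simp [opImgOK] at h
  | q :: O, j :: js, hO, h => by
    simp only [opImgOK, Bool.and_eq_true, Nat.beq_eq] at h
    have e := ev_opImg hb x O js (fun r hr => hO r (List.mem_cons_of_mem _ hr)) h.2
    simp only [opApp] at e
    simp only [opImg, Spec.ev, opApp, linVal]
    rw [e]
    have hk : Evn S.n (S.K.getD j.2 (idCode S.n, 1)).1 ∧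
        el S.n (S.K.getD j.2 (idCode S.n, 1)).1 • v = (S.K.getD j.2 (idCode S.n, 1)).2 • v := by
      by_cases hj : j.2 < S.K.length
      · rw [List.getD_eq_getElem _ _ hj]
        exact hb.fix _ (List.getElem_mem hj)
      · rw [List.getD_eq_default _ _ (Nat.le_of_not_lt hj)]
        exact ⟨(evn_id hb.deg).1, by simp only [(evn_id hb.deg).2, one_smul]⟩
    have e1 := ((hO q List.mem_cons_self).comp hb.deg (hb.tbl x)).2
    have e2 := ((hb.tbl j.1).comp hb.deg hk.1).2
    rw [h.1, e2] at e1
    congr 1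
    simp only [Spec.f]
    rw [← mul_smul (el S.n q.1), ← e1, mul_smul (el S.n (S.tbl j.1)), hk.2,
      smul_comm (el S.n (S.tbl j.1)) _ v, mul_smul]

/-- A seed from the action of an operator. -/
theorem ev_opRel {v : V} (hb : S.Base v) {x : ℕ} {O : List (ℕ × ℤ)} {js : List (ℕ × ℕ)} {m : ℤ}
    (hO : Evns S.n O) (h : opImgOK S x O js = true) (hu : opApp S.n O (S.f v x) = m • S.f v x)
    {w : List (ℕ × ℤ)} {p : ℤ} (hp : ∀ u : V, p • u = 0) (hw : eqCoef S.N p w (opRel S x O js m) = true) :
    S.ev v w = 0 := by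
  rw [ev_congr v hp hw, opRel, ev_append, ev_opImg hb x O js hO h, hu, Spec.ev, Spec.ev, add_zero, neg_smul,
    add_neg_cancel]

end Relations

section Finding

variable {n : ℕ} {V : Type*} [AddCommGroup V] [DistribMulAction (alternatingGroup (Fin n)) V]

/-- An element of `p`-power order fixes a nonzero vector of an invariant subgroup in characteristic `p`. -/
theorem exists_fixed (T : alternatingGroup (Fin n)) (h5 : T ^ 5 = 1) (hp : ∀ u : V, (5 : ℤ) • u = 0)
    (W : AddSubgroup V) (hW : ∀ u ∈ W, T • u ∈ W) (u : V) (hu : u ∈ W) (hu0 : u ≠ 0) :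
    ∃ u' ∈ W, u' ≠ 0 ∧ T • u' = u' := by
  by_contra hno
  push Not at hno
  let d : V → V := fun w => T • w - w
  have hd : ∀ w ∈ W, w ≠ 0 → d w ∈ W ∧ d w ≠ 0 := fun w hw hw0 =>
    ⟨W.sub_mem (hW w hw) hw, fun h => hno w hw hw0 (sub_eq_zero.1 h)⟩
  obtain ⟨a1, b1⟩ := hd u hu hu0
  obtain ⟨a2, b2⟩ := hd _ a1 b1
  obtain ⟨a3, b3⟩ := hd _ a2 b2
  obtain ⟨a4, b4⟩ := hd _ a3 b3
  obtain ⟨-, b5⟩ := hd _ a4 b4
  apply b5
  have hT : T • T • T • T • T • u = u := by
    simp only [← mul_smul]
    have e : T * T * T * T * T = 1 := by rw [← h5]; simp [pow_succ]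
    simp only [mul_assoc] at e ⊢
    rw [e, one_smul]
  calc d (d (d (d (d u))))
      = T • T • T • T • T • u - u +
          ((-5 : ℤ) • T • T • T • T • u + (10 : ℤ) • T • T • T • u + (-10 : ℤ) • T • T • u + (5 : ℤ) • T • u) := by
        simp only [d, smul_sub]
        abel
    _ = 0 := by
        rw [hT, sub_self, zero_add]
        have h10 : ∀ w : V, (10 : ℤ) • w = 0 := fun w => by
          rw [show (10 : ℤ) = 2 * 5 by norm_num, mul_smul, hp, smul_zero]
        rw [neg_smul, hp, h10, neg_smul, h10, hp]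
        simp

/-- An involution has an eigenvector in an invariant subgroup without two-torsion. -/
theorem exists_eigen (T : alternatingGroup (Fin n)) (h2 : T * T = 1) (W : AddSubgroup V)
    (hW : ∀ u ∈ W, T • u ∈ W) (htor : ∀ u : V, u + u = 0 → u = 0) (u : V) (hu : u ∈ W) (hu0 : u ≠ 0) :
    ∃ u' ∈ W, u' ≠ 0 ∧ ∃ s : ℤ, (s = 1 ∨ s = -1) ∧ T • u' = s • u' := by
  by_cases h : u + T • u = 0
  · exact ⟨u, hu, hu0, -1, Or.inr rfl, by rw [neg_smul, one_smul]; exact eq_neg_of_add_eq_zero_right h⟩
  · exact ⟨u + T • u, W.add_mem hu (hW u hu), h, 1, Or.inl rfl, by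
      rw [one_smul, smul_add, ← mul_smul, h2, one_smul, add_comm]⟩

end Finding

end Cfsg.Agent.Solv.AltSec

namespace Cfsg.Agent.Solv.AltSec

variable {S : Spec} {V : Type*} [AddCommGroup V] [DistribMulAction (alternatingGroup (Fin S.n)) V]

/-- An operator acting as a scalar on the base vector does so on the first translate. -/
theorem opApp_base {v : V} (hb : S.Base v) {p : ℤ} {seeds : List (List (ℕ × ℤ))} {is : List Inst} {c : ℤ}
    (h : finalOK S p seeds is c = true) {O : List (ℕ × ℤ)} {m : ℤ} (hu : opApp S.n O v = m • v) :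
    opApp S.n O (S.f v 0) = m • S.f v 0 := by
  simp only [finalOK, Bool.and_eq_true, Nat.beq_eq] at h
  rwa [Spec.f, h.2, (evn_id hb.deg).2, one_smul]

/-- A seed fixed by generators of a subgroup without nonzero fixed vectors vanishes. -/
theorem seed_fix {v : V} (hb : S.Base v) {p : ℤ} (hp : ∀ u : V, p • u = 0) {w : List (ℕ × ℤ)}
    {L : List (List (ℕ × ℕ) × List (ℕ × ℕ) × List Inst)} {G : List (List (ℕ × ℕ))}
    (h : fixOK S p [] w L = true ∧ L.map Prod.fst = G)
    (hG : ∀ u : V, (∀ g ∈ G, el S.n (wcode S.n g) • u = u) → u = 0) : S.ev v w = 0 := by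
  refine ev_fix hb hp (fun w' h => absurd h List.not_mem_nil) h.1 fun u hu => hG u fun g hg => ?_
  rw [← h.2, List.mem_map] at hg
  obtain ⟨a, ha, rfl⟩ := hg
  exact hu a ha

end Cfsg.Agent.Solv.AltSec
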