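import Cfsg.Prelude.Def_LocalEven
import Cfsg.Agent.Lib.Solv.AltSec.Hyp
import Cfsg.Agent.Lib.Solv.Basic
import Cfsg.Agent.Lib.Solv.Cores
import Mathlib.GroupTheory.Frattini
import Mathlib.GroupTheory.Perm.ViaEmbedding
import Mathlib.GroupTheory.SpecificGroups.Alternating.Centralizer
import Mathlib.GroupTheory.SpecificGroups.Alternating.Simple

/-!
Reducing alternating sections to modules: the group-theoretic half.
-/

set_option autoImplicit false
set_option linter.style.haveILetI false

namespace Cfsg.Agent.Solv.AltSec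

open Subgroup

universe u

section Emb

variable {α β : Type*} [Fintype α] [DecidableEq α] [Fintype β] [DecidableEq β]

/-- Even permutations of a subset extend to even permutations. -/
noncomputable def altEmb (e : α ↪ β) : alternatingGroup α →* alternatingGroup β :=
  ((Equiv.Perm.viaEmbeddingHom e).comp (alternatingGroup α).subtype).codRestrict _ fun g => by
    classical
    rw [Equiv.Perm.mem_alternatingGroup]
    show Equiv.Perm.sign ((g : Equiv.Perm α).viaEmbedding e) = 1
    unfold Equiv.Perm.viaEmbedding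
    convert Equiv.Perm.mem_alternatingGroup.1 g.2 using 1
    convert Equiv.Perm.sign_extendDomain (g : Equiv.Perm α) _

theorem altEmb_val (e : α ↪ β) (g : alternatingGroup α) :
    (altEmb e g : Equiv.Perm β) = (g : Equiv.Perm α).viaEmbedding e := rfl

theorem altEmb_injective (e : α ↪ β) : Function.Injective (altEmb e) := fun a b h =>
  Subtype.ext (Equiv.Perm.viaEmbeddingHom_injective e (congrArg Subtype.val h))

end Emb

theorem not_solvable_alt_five : ¬ Group.IsSolvable (alternatingGroup (Fin 5)) := by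
  intro h
  haveI : Nontrivial (alternatingGroup (Fin 5)) := inferInstance
  have hlt := Group.IsSolvable.commutator_lt_top_of_nontrivial (alternatingGroup (Fin 5))
  exact hlt.ne (commutator_alternatingGroup_eq_top (by simp))

theorem exists_order_small {p m : ℕ} [hp : Fact p.Prime] (hm : 4 ≤ m ∨ (m = p ∧ p ≠ 2)) (hpm : p ≤ m) :
    ∃ a : alternatingGroup (Fin m), orderOf a = p := by
  have hm2 : 2 ≤ m := le_trans hp.out.two_le hpm
  haveI : Nontrivial (Fin m) := Fin.nontrivial_iff_two_le.2 hm2
  refine exists_prime_orderOf_dvd_card' p ?_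
  rw [nat_card_alternatingGroup, Nat.card_fin]
  rcases eq_or_ne p 2 with rfl | hne
  · have h4 : 4 ≤ m := hm.elim id fun h => absurd rfl h.2
    obtain ⟨c, hc⟩ : Nat.factorial 4 ∣ m.factorial := Nat.factorial_dvd_factorial h4
    rw [hc]
    refine ⟨6 * c, ?_⟩
    rw [show Nat.factorial 4 = 24 from rfl]
    omega
  · obtain ⟨c, hc⟩ : p ∣ m.factorial := Nat.dvd_factorial hp.out.pos hpm
    obtain ⟨e, he⟩ : 2 ∣ m.factorial := Nat.dvd_factorial (by norm_num) hm2
    have h2 : 2 ∣ p * c := hc ▸ Dvd.intro e he.symm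
    obtain ⟨f, hf⟩ : 2 ∣ c := ((Nat.coprime_primes Nat.prime_two hp.out).2 hne.symm).dvd_of_dvd_mul_left h2
    refine ⟨f, ?_⟩
    rw [hc, hf, show p * (2 * f) = 2 * (p * f) by ring, Nat.mul_div_cancel_left _ (by norm_num : 0 < 2)]

/-- An element of order `p` with nonsolvable centralizer. -/
theorem exists_big_centralizer {p d : ℕ} [hp : Fact p.Prime] (h9 : 9 ≤ d) (hpd : p + 5 ≤ d) :
    ∃ a : alternatingGroup (Fin d), orderOf a = p ∧
      ¬ Group.IsSolvable (centralizer ({a} : Set (alternatingGroup (Fin d)))) := by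
  have key : ∀ m : ℕ, m + 5 ≤ d → p ≤ m → (4 ≤ m ∨ (m = p ∧ p ≠ 2)) →
      ∃ a : alternatingGroup (Fin d), orderOf a = p ∧
        ¬ Group.IsSolvable (centralizer ({a} : Set (alternatingGroup (Fin d)))) := by
    intro m hmd hpm hm
    obtain ⟨a, ha⟩ := exists_order_small hm hpm
    let e1 : Fin m ↪ Fin d := Fin.castLEEmb (by omega)
    let e2 : Fin 5 ↪ Fin d := ⟨fun j => ⟨d - 5 + j, by omega⟩, fun i j h => Fin.ext (by simpa using h)⟩
    refine ⟨altEmb e1 a, by rw [orderOf_injective _ (altEmb_injective e1), ha], fun hs => ?_⟩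
    have hd : ∀ (i : Fin m) (j : Fin 5), e1 i ≠ e2 j := fun i j h => by
      have h' : (i : ℕ) = d - 5 + j := congrArg Fin.val h
      omega
    have hcomm : ∀ b, altEmb e2 b ∈ centralizer ({altEmb e1 a} : Set (alternatingGroup (Fin d))) := by
      intro b
      rw [mem_centralizer_singleton_iff]
      refine (Subtype.ext ?_ : altEmb e2 b * altEmb e1 a = altEmb e1 a * altEmb e2 b)
      simp only [Subgroup.coe_mul, altEmb_val]
      refine Equiv.Perm.Disjoint.commute fun x => ?_
      by_cases hx : x ∈ Set.range e2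
      · right
        refine Equiv.Perm.viaEmbedding_apply_of_notMem _ _ _ ?_
        rintro ⟨i, rfl⟩
        obtain ⟨j, hj⟩ := hx
        exact hd i j hj.symm
      · exact Or.inl (Equiv.Perm.viaEmbedding_apply_of_notMem _ _ _ hx)
    exact not_solvable_alt_five (Group.isSolvable_of_isSolvable_injective
      (f := (altEmb e2).codRestrict _ hcomm) fun x y hxy => altEmb_injective e2 (congrArg Subtype.val hxy))
  rcases eq_or_ne p 2 with rfl | hne
  · exact key 4 (by omega) (by norm_num) (Or.inl le_rfl)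
  · exact key p hpd le_rfl (Or.inr ⟨rfl, hne⟩)

/-- Commutators with a fixed element landing in the centre give a homomorphism. -/
theorem solvable_of_comm {K : Type*} [Group K] (U : Subgroup K) (z : K)
    (hc : ∀ k ∈ U, k * z * k⁻¹ * z⁻¹ ∈ center K) (hs : Group.IsSolvable (centralizer ({z} : Set K))) :
    Group.IsSolvable U := by
  let ψ : U →* center K := MonoidHom.mk' (fun k => ⟨(k : K) * z * (k : K)⁻¹ * z⁻¹, hc k k.2⟩) fun a b =>
    Subtype.ext (by
      show (a : K) * b * z * ((a : K) * b)⁻¹ * z⁻¹ = (a : K) * z * (a : K)⁻¹ * z⁻¹ * ((b : K) * z * (b : K)⁻¹ * z⁻¹)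
      have hb : ∀ g, ((b : K) * z * (b : K)⁻¹ * z⁻¹) * g = g * ((b : K) * z * (b : K)⁻¹ * z⁻¹) :=
        fun g => (mem_center_iff.1 (hc b b.2) g).symm
      calc (a : K) * b * z * ((a : K) * b)⁻¹ * z⁻¹
          = (a : K) * ((b : K) * z * (b : K)⁻¹ * z⁻¹) * z * (a : K)⁻¹ * z⁻¹ := by group
        _ = ((b : K) * z * (b : K)⁻¹ * z⁻¹) * ((a : K) * z * (a : K)⁻¹ * z⁻¹) := by
            rw [← hb]
            group
        _ = _ := hb _)
  haveI : Group.IsSolvable ψ.ker := by
    haveI := hs
    refine Group.isSolvable_of_isSolvable_injective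
      (f := (U.subtype.comp ψ.ker.subtype).codRestrict (centralizer ({z} : Set K)) fun k => ?_)
      fun x y hxy => Subtype.ext (Subtype.ext (by have := congrArg Subtype.val hxy; exact this))
    have h1 : (k : K) * z * (k : K)⁻¹ * z⁻¹ = 1 := congrArg Subtype.val k.2
    rw [mem_centralizer_singleton_iff]
    exact mul_inv_eq_iff_eq_mul.1 (mul_inv_eq_one.1 h1)
  haveI : Group.IsSolvable (center K) := Group.isSolvable_of_comm fun a b => Subtype.ext (mem_center_iff.1 b.2 a)
  exact Group.isSolvable_of_ker_le_range ψ.ker.subtype ψ (range_subtype _).ge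

/-- An element of a nilpotent normal subgroup of prime-power order lies in the core. -/
theorem mem_pCore_of_mem {K : Type*} [Group K] [Finite K] {p : ℕ} [Fact p.Prime] {N : Subgroup K} [N.Normal]
    (hN : Group.IsNilpotent N) {y : K} (hy : y ∈ N) {k : ℕ} (hk : orderOf y = p ^ k) : y ∈ Cfsg.pCore p K := by
  haveI := hN
  have hY : IsPGroup p (zpowers (⟨y, hy⟩ : N)) := IsPGroup.of_card (n := k) (by
    rw [Nat.card_zpowers, ← Subgroup.orderOf_coe]
    exact hk)
  obtain ⟨Q, hQ⟩ := hY.exists_le_sylow
  haveI : (Q : Subgroup N).Characteristic := Q.characteristic_of_normal inferInstance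
  exact normal_le_pCore (Q.2.map N.subtype) ⟨⟨y, hy⟩, hQ (mem_zpowers _), rfl⟩

/-- A minimal normal subgroup inside a nilpotent normal subgroup is centralized by it. -/
theorem minimal_commutator {K : Type*} [Group K] {L N : Subgroup K} [L.Normal] [N.Normal] (hLN : L ≤ N)
    (hN : Group.IsNilpotent N) (hmin : ∀ X : Subgroup K, X.Normal → X ≤ L → X = ⊥ ∨ X = L) :
    ∀ l ∈ L, ∀ n ∈ N, n * l = l * n := by
  rcases hmin ⁅L, N⁆ inferInstance (commutator_le_left L N) with h | h
  · intro l hl n hn
    have := commutator_mem_commutator hl hn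
    rw [h, mem_bot, commutatorElement_eq_one_iff_mul_comm] at this
    exact this.symm
  · have hk : ∀ k, L ≤ N.lowerCentralSeries k := by
      intro k
      induction k with
      | zero => exact hLN
      | succ k ih =>
        rw [Subgroup.lowerCentralSeries_succ, ← h]
        exact commutator_mono ih le_rfl
    obtain ⟨c, hc⟩ := (Subgroup.isNilpotent_iff_lowerCentralSeries N).1 hN
    intro l hl n _
    have := hk c hl
    rw [hc, mem_bot] at this
    rw [this, mul_one, one_mul]

/-- The reduction. -/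
theorem core {K : Type u} [Group K] [Finite K] {p d d₀ : ℕ} [hp : Fact p.Prime] (h9 : 9 ≤ d) (hpd : p + 5 ≤ d)
    (h0 : d₀ ≤ d) (φ : K →* alternatingGroup (Fin d)) (hφ : Function.Surjective φ)
    (hmin : ∀ M : Subgroup K, M.map φ = ⊤ → M = ⊤)
    (h : ∀ x : K, x ∉ center K → (∃ k : ℕ, orderOf x = p ^ k) → Group.IsSolvable (centralizer ({x} : Set K)))
    (key : ∀ (V : Type u) [AddCommGroup V] [Finite V] [DistribMulAction (alternatingGroup (Fin d₀)) V],
      (∀ v : V, (p : ℤ) • v = 0) → Hyp d₀ V → ∀ v : V, v = 0) : False := by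
  have hNf : φ.ker ≤ frattini K := by
    simp only [frattini, Order.radical, le_iInf_iff]
    intro M hM
    by_contra hle
    have hsup : M ⊔ φ.ker = ⊤ := hM.2 _ (left_lt_sup.2 hle)
    refine hM.1 (hmin M ?_)
    have := congrArg (Subgroup.map φ) hsup
    rwa [Subgroup.map_sup, (Subgroup.map_eq_bot_iff _).2 le_rfl, sup_bot_eq, ← MonoidHom.range_eq_map,
      MonoidHom.range_eq_top.2 hφ] at this
  have hNnil : Group.IsNilpotent φ.ker := isNilpotent_of_le hNf frattini_nilpotent
  haveI hcore := pCore_normal (G := K) p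
  set P : Subgroup K := Cfsg.pCore p K ⊓ φ.ker with hPdef
  have hPp : IsPGroup p P := (pCore_isPGroup p).to_le inf_le_left
  have hcent : ∀ x : K, φ x ≠ 1 → x ∉ center K := by
    intro x hx hxc
    apply hx
    have : φ x ∈ center (alternatingGroup (Fin d)) := by
      rw [mem_center_iff]
      intro g
      obtain ⟨g, rfl⟩ := hφ g
      rw [← map_mul, ← map_mul, mem_center_iff.1 hxc g]
    rwa [alternatingGroup.center_eq_bot (by simp; omega), mem_bot] at this
  by_cases hP : P ≤ center K
  · -- an element of order `p` with large centralizer lifts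
    obtain ⟨a, ha, hC⟩ := exists_big_centralizer (p := p) h9 hpd
    set C := centralizer ({a} : Set (alternatingGroup (Fin d))) with hCdef
    set M := C.comap φ with hMdef
    obtain ⟨y, hy⟩ := hφ a
    obtain ⟨j, m, hm, hjm⟩ := Nat.exists_eq_pow_mul_and_not_dvd (orderOf_pos y).ne' p hp.out.ne_one
    obtain ⟨c, hc⟩ : ∃ c, m * c ≡ 1 [MOD p] := by
      obtain ⟨c, -, hc⟩ := Nat.exists_mul_mod_eq_one_of_coprime
        ((hp.out.coprime_iff_not_dvd.2 hm).symm) hp.out.one_lt
      exact ⟨c, hc.trans (Nat.mod_eq_of_lt hp.out.one_lt).symm⟩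
    set x := y ^ (m * c) with hx
    have hxa : φ x = a := by
      rw [hx, map_pow, hy]
      calc a ^ (m * c) = a ^ 1 := pow_eq_pow_iff_modEq.2 (ha.symm ▸ hc)
        _ = a := pow_one a
    have hxp : x ^ p ^ j = 1 := by
      rw [hx, ← pow_mul, show m * c * p ^ j = orderOf y * c by rw [hjm]; ring, pow_mul, pow_orderOf_eq_one, one_pow]
    obtain ⟨k, -, hxk⟩ := (Nat.dvd_prime_pow hp.out).1 (orderOf_dvd_of_pow_eq_one hxp)
    set T := (zpowers a).comap φ with hT
    have hxT : x ∈ T := by rw [hT, mem_comap, hxa]; exact mem_zpowers a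
    have hTM : T ≤ M := comap_mono ((zpowers_le).2 (mem_centralizer_singleton_iff.2 rfl))
    haveI : (T.subgroupOf M).Normal := by
      refine ⟨fun n hn g => ?_⟩
      rw [mem_subgroupOf, hT, mem_comap] at hn ⊢
      obtain ⟨i, hi⟩ := mem_zpowers_iff.1 hn
      have hg : φ (g : K) * a = a * φ (g : K) := mem_centralizer_singleton_iff.1 g.2
      simp only [Subgroup.coe_mul, Subgroup.coe_inv, map_mul, map_inv, ← hi]
      rw [(Commute.zpow_right hg i).eq, mul_inv_cancel_right]
      exact mem_zpowers_iff.2 ⟨i, rfl⟩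
    let xT : T.subgroupOf M := ⟨⟨x, hTM hxT⟩, hxT⟩
    have hX : IsPGroup p (zpowers xT) := IsPGroup.of_card (n := k) (by
      rw [Nat.card_zpowers, ← hxk, ← Subgroup.orderOf_coe, ← Subgroup.orderOf_coe])
    obtain ⟨S, hS⟩ := hX.exists_le_sylow
    set S' : Subgroup M := (S : Subgroup (T.subgroupOf M)).map (T.subgroupOf M).subtype with hS'
    have hxS : (⟨x, hTM hxT⟩ : M) ∈ S' := ⟨xT, hS (mem_zpowers _), rfl⟩
    have hS'p : IsPGroup p S' := S.2.map _
    set R := normalizer (S' : Set M) with hR
    have hfr : R ⊔ T.subgroupOf M = ⊤ := Sylow.normalizer_sup_eq_top S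
    set U : Subgroup K := R.map M.subtype with hU
    have hxc : x ∉ center K := hcent x (by
      rw [hxa]
      intro h1
      rw [h1, orderOf_one] at ha
      exact hp.out.ne_one ha.symm)
    have hUs : Group.IsSolvable U := by
      refine solvable_of_comm U x ?_ (h x hxc ⟨k, hxk⟩)
      rintro g ⟨r, hr, rfl⟩
      have hconj : r * ⟨x, hTM hxT⟩ * r⁻¹ ∈ S' := (Subgroup.mem_normalizer_iff.1 hr _).1 hxS
      have hz : r * ⟨x, hTM hxT⟩ * r⁻¹ * (⟨x, hTM hxT⟩ : M)⁻¹ ∈ S' := S'.mul_mem hconj (S'.inv_mem hxS)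
      obtain ⟨i, hi⟩ := IsPGroup.iff_orderOf.1 hS'p ⟨_, hz⟩
      rw [← Subgroup.orderOf_coe, ← Subgroup.orderOf_coe] at hi
      simp only [Subgroup.coe_mul, Subgroup.coe_inv] at hi
      have hker : (r : K) * x * (r : K)⁻¹ * x⁻¹ ∈ φ.ker := by
        have hg : φ (r : K) * a = a * φ (r : K) := mem_centralizer_singleton_iff.1 r.2
        rw [MonoidHom.mem_ker, map_mul, map_mul, map_mul, map_inv, map_inv, hxa, hg]
        group
      exact hP ⟨mem_pCore_of_mem hNnil hker hi, hker⟩
    refine hC (isSolvable_of_le (?_ : C ≤ U.map φ) (isSolvable_map φ hUs))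
    intro g hg
    obtain ⟨w, rfl⟩ := hφ g
    have hw : (⟨w, hg⟩ : M) ∈ R ⊔ T.subgroupOf M := hfr ▸ Subgroup.mem_top _
    obtain ⟨r, hr, t, ht, hrt⟩ := Subgroup.mem_sup_of_normal_right.1 hw
    have hrt' : (r : K) * (t : K) = w := congrArg Subtype.val hrt
    rw [← hrt', map_mul]
    refine mul_mem ⟨_, ⟨r, hr, rfl⟩, rfl⟩ ?_
    have ht' : φ (t : K) ∈ zpowers a := ht
    refine (zpowers_le.2 ?_) ht'
    exact ⟨x, ⟨⟨x, hTM hxT⟩, Subgroup.le_normalizer hxS, rfl⟩, hxa⟩
  · -- a chief factor is a module
    set Z₀ := P ⊓ center K with hZ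
    haveI : Z₀.Normal := inferInstance
    set π := QuotientGroup.mk' Z₀ with hπdef
    have hπ : Function.Surjective π := QuotientGroup.mk'_surjective Z₀
    haveI : (P.map π).Normal := Subgroup.Normal.map inferInstance π hπ
    have hPne : P.map π ≠ ⊥ := by
      intro hb
      refine hP fun w hw => ?_
      have : π w ∈ P.map π := mem_map_of_mem _ hw
      rw [hb, mem_bot] at this
      exact ((QuotientGroup.eq_one_iff w).1 this).2
    obtain ⟨L, hLn, hLne, hLP, hLmin⟩ := exists_minimal_normal_le _ hPne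
    haveI := hLn
    have hLp : IsPGroup p L := (hPp.map π).to_le hLP
    haveI := hLp.isNilpotent
    obtain ⟨hab, q, hq, hexp, -⟩ := minimal_normal_elementaryAbelian L inferInstance hLne hLmin
    have hqp : q = p := by
      haveI : Nontrivial L := (nontrivial_iff_ne_bot L).2 hLne
      obtain ⟨⟨l, hl⟩, hl1⟩ := exists_ne (1 : L)
      have h1 : orderOf l = q := (Nat.dvd_prime hq).1 (orderOf_dvd_of_pow_eq_one (hexp l hl)) |>.resolve_left
        fun he => hl1 (Subtype.ext (orderOf_eq_one_iff.1 he))
      obtain ⟨i, hi⟩ := IsPGroup.iff_orderOf.1 hLp ⟨l, hl⟩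
      rw [← Subgroup.orderOf_coe] at hi
      rw [Subgroup.coe_mk, h1] at hi
      exact (Nat.prime_dvd_prime_iff_eq hq hp.out).1 (hq.dvd_of_dvd_pow (dvd_of_eq hi))
    haveI : (φ.ker.map π).Normal := Subgroup.Normal.map inferInstance π hπ
    have hNq : Group.IsNilpotent (φ.ker.map π) := by
      haveI := hNnil
      exact Group.nilpotent_of_surjective (π.subgroupMap φ.ker) (π.subgroupMap_surjective _)
    have hcomm := minimal_commutator (hLP.trans (map_mono inf_le_right)) hNq hLmin
    let g : K →* MulAut L := MulAut.conjNormal.comp π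
    have hg : φ.ker ≤ g.ker := by
      intro k hk
      rw [MonoidHom.mem_ker]
      refine MulEquiv.ext fun l => Subtype.ext ?_
      show (MulAut.conjNormal (π k) l : K ⧸ Z₀) = (l : K ⧸ Z₀)
      rw [MulAut.conjNormal_apply, hcomm l l.2 _ (mem_map_of_mem π hk), mul_inv_cancel_right]
    let θ : alternatingGroup (Fin d) →* MulAut L := φ.liftOfSurjective hφ ⟨g, hg⟩
    have hθ : ∀ k, θ (φ k) = g k := fun k => φ.liftOfRightInverse_comp_apply _ _ ⟨g, hg⟩ k
    let ι := altEmb (Fin.castLEEmb h0 : Fin d₀ ↪ Fin d)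
    letI : CommGroup L := { (inferInstance : Group L) with mul_comm := hab.is_comm.comm }
    letI : DistribMulAction (alternatingGroup (Fin d₀)) (Additive L) :=
      { smul := fun r u => Additive.ofMul (θ (ι r) u.toMul)
        one_smul := fun u => by
          show Additive.ofMul (θ (ι 1) u.toMul) = u
          rw [map_one, map_one]
          rfl
        mul_smul := fun r s u => by
          show Additive.ofMul (θ (ι (r * s)) u.toMul) = Additive.ofMul (θ (ι r) (θ (ι s) u.toMul))
          rw [map_mul, map_mul]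
          rfl
        smul_zero := fun r => congrArg Additive.ofMul (map_one (θ (ι r)))
        smul_add := fun r u v => congrArg Additive.ofMul (map_mul (θ (ι r)) u.toMul v.toMul) }
    have hpV : ∀ v : Additive L, (p : ℤ) • v = 0 := fun v => by
      rw [natCast_zsmul]
      exact congrArg Additive.ofMul (Subtype.ext (by rw [SubmonoidClass.coe_pow]; exact hqp ▸ hexp _ v.toMul.2) :
        v.toMul ^ p = 1)
    have hH : Hyp d₀ (Additive L) := by
      intro R hR v hv
      by_contra hv0
      obtain ⟨z, hzP, hzl⟩ : (v.toMul : K ⧸ Z₀) ∈ P.map π := hLP v.toMul.2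
      have hzc : z ∉ center K := fun hc => hv0 (by
        have h1 : π z = 1 := (QuotientGroup.eq_one_iff z).2 ⟨hzP, hc⟩
        rw [hzl] at h1
        exact congrArg Additive.ofMul (Subtype.ext h1 : v.toMul = 1))
      obtain ⟨i, hi⟩ := IsPGroup.iff_orderOf.1 hPp ⟨z, hzP⟩
      rw [← Subgroup.orderOf_coe] at hi
      set U := (R.map ι).comap φ with hU
      have hUs : Group.IsSolvable U := by
        refine solvable_of_comm U z ?_ (h z hzc ⟨i, hi⟩)
        rintro k ⟨r, hr, hrk⟩
        have e : g k v.toMul = v.toMul := by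
          rw [← hθ, ← hrk]
          exact congrArg Additive.toMul (hv r hr)
        have e' : π k * π z * (π k)⁻¹ = π z := by
          have := congrArg Subtype.val e
          rw [show g k = MulAut.conjNormal (π k) from rfl, MulAut.conjNormal_apply] at this
          rw [hzl]
          exact this
        have : π (k * z * k⁻¹ * z⁻¹) = 1 := by rw [map_mul, map_mul, map_mul, map_inv, map_inv, e', mul_inv_cancel]
        exact ((QuotientGroup.eq_one_iff _).1 this).2
      refine hR ?_
      have hs : Group.IsSolvable (R.map ι) := by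
        have := isSolvable_map φ hUs
        rwa [hU, map_comap_eq_self_of_surjective hφ] at this
      exact Group.isSolvable_of_isSolvable_injective
        (f := (R.equivMapOfInjective ι (altEmb_injective _)).toMonoidHom) (MulEquiv.injective _)
    refine hLne ((eq_bot_iff_forall _).2 fun l hl => ?_)
    exact congrArg (fun v : Additive L => (v.toMul : K ⧸ Z₀)) (key (Additive L) hpV hH (Additive.ofMul ⟨l, hl⟩))

/-- Passing to a minimal preimage of the section. -/
theorem no_section {G : Type u} [Group G] [Finite G] {p d d₀ : ℕ} [Fact p.Prime] (h9 : 9 ≤ d) (hpd : p + 5 ≤ d)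
    (h0 : d₀ ≤ d)
    (h : ∀ x : G, x ∉ center G → (∃ k : ℕ, orderOf x = p ^ k) → Group.IsSolvable (centralizer ({x} : Set G)))
    (key : ∀ (V : Type u) [AddCommGroup V] [Finite V] [DistribMulAction (alternatingGroup (Fin d₀)) V],
      (∀ v : V, (p : ℤ) • v = 0) → Hyp d₀ V → ∀ v : V, v = 0)
    (hinv : Cfsg.Involves (alternatingGroup (Fin d)) G) : False := by
  obtain ⟨K0, R, hR, ⟨e⟩⟩ := hinv
  haveI := hR
  obtain ⟨K, -, ⟨φ, hφ⟩, hmin⟩ := Finite.exists_le_minimal
    (p := fun K : Subgroup G => ∃ φ : K →* alternatingGroup (Fin d), Function.Surjective φ) (a := K0)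
    ⟨e.toMonoidHom.comp (QuotientGroup.mk' _), e.surjective.comp (QuotientGroup.mk'_surjective _)⟩
  refine core h9 hpd h0 φ hφ (fun M hM => ?_) (fun x hx hk => ?_) key
  · have hle : M.map K.subtype ≤ K := map_subtype_le M
    have hsurj : Function.Surjective ((φ.comp M.subtype).comp (M.equivMapOfInjective K.subtype K.subtype_injective).symm.toMonoidHom) := by
      intro a
      obtain ⟨m, hm, rfl⟩ : a ∈ M.map φ := hM ▸ mem_top a
      exact ⟨M.equivMapOfInjective K.subtype K.subtype_injective ⟨m, hm⟩, by simp⟩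
    have := le_antisymm hle (hmin ⟨_, hsurj⟩ hle)
    exact map_injective K.subtype_injective (this.trans (by rw [← MonoidHom.range_eq_map, range_subtype]))
  · obtain ⟨k, hk⟩ := hk
    have hxG : (x : G) ∉ center G := fun hc => hx (mem_center_iff.2 fun g => Subtype.ext (mem_center_iff.1 hc g))
    haveI := h x hxG ⟨k, by rw [Subgroup.orderOf_coe]; exact hk⟩
    exact Group.isSolvable_of_isSolvable_injective
      (f := (K.subtype.comp (centralizer ({x} : Set K)).subtype).codRestrict (centralizer ({(x : G)} : Set G))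
        fun g => mem_centralizer_singleton_iff.2 (congrArg Subtype.val (mem_centralizer_singleton_iff.1 g.2)))
      fun a b hab => Subtype.ext (Subtype.ext (by have := congrArg Subtype.val hab; exact this))

end Cfsg.Agent.Solv.AltSec
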